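import Cfsg.Agent.Layer.Balance
import Cfsg.Agent.Layer.Intrinsic
import Cfsg.Agent.Layer.LBalanceTwo
import Cfsg.Agent.Invol.ZStar

/-!
Components with a single involution: twisting elements from the Z*-theorem, projections of
2-component groups on components, diagonals, lifts.
-/

set_option autoImplicit false

namespace Cfsg.Agent.ClassicalInv

open Subgroup Cfsg
open scoped commutatorElement

universe u v

variable {Q : Type u} [Group Q] [Finite Q]

/-! ### Two-parts -/

/-- A single exponent replacing an element by its `2`-part under all homomorphisms. -/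
theorem exists_twoPart (x : Q) : ∃ n : ℕ, (∃ k : ℕ, (x ^ n) ^ 2 ^ k = 1) ∧
    ∀ {M : Type v} [Group M] (φ : Q →* M) (l : ℕ), φ x ^ 2 ^ l = 1 → φ (x ^ n) = φ x := by
  obtain ⟨k, m, hm, hkm⟩ := Nat.exists_eq_two_pow_mul_odd (orderOf_pos x).ne'
  obtain ⟨n, hn1, hn2⟩ := Nat.chineseRemainder
    ((Nat.coprime_two_left.2 hm).pow_left k : (2 ^ k).Coprime m) 1 0
  refine ⟨n, ⟨k, ?_⟩, fun φ l hl => ?_⟩
  · rw [← pow_mul, ← orderOf_dvd_iff_pow_eq_one, hkm, mul_comm n]
    exact Nat.mul_dvd_mul_left _ (Nat.modEq_zero_iff_dvd.1 hn2)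
  · have h1 : orderOf (φ x) ∣ 2 ^ k := by
      have h2 : orderOf (φ x) ∣ 2 ^ k * m := hkm ▸ orderOf_map_dvd φ x
      exact ((Nat.coprime_two_left.2 hm).pow_left l).coprime_dvd_left
        (orderOf_dvd_of_pow_eq_one hl) |>.dvd_of_dvd_mul_right h2
    rw [map_pow]
    conv_rhs => rw [← pow_one (φ x)]
    exact (pow_eq_pow_iff_modEq).2 (hn1.of_dvd h1)

/-! ### Components in a group with trivial core -/

theorem oddCore_component (hO : oddCore Q = ⊥) {L : Subgroup Q} (hL : IsComponent L) :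
    oddCore ↥L = ⊥ := by
  have : Fact (Nat.Prime 2) := ⟨Nat.prime_two⟩
  apply Subgroup.map_injective L.subtype_injective
  rw [Subgroup.map_bot, ← le_bot_iff]
  exact (Layer.map_pPrimeCore_eq_inf (p := 2) hL.1).le.trans (inf_le_right.trans hO.le)

theorem component_pComp (hO : oddCore Q = ⊥) {L : Subgroup Q} (hL : IsComponent L) :
    Layer.IsPCompGroup 2 ↥L := by
  have : Fact (Nat.Prime 2) := ⟨Nat.prime_two⟩
  have h := oddCore_component hO hL
  refine ⟨?_, Layer.isQuasisimple_congr
    ((QuotientGroup.quotientMulEquivOfEq h).trans QuotientGroup.quotientBot).symm hL.2⟩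
  refine (Layer.pElemClosure_top_eq_top_iff L).2 ?_
  have : ((Layer.pElemClosure 2 L).subgroupOf L).Normal := Layer.pElemClosure_normal L
  exact le_antisymm (Layer.pElemClosure_le L)
    (subgroupOf_eq_top.1 (Layer.component_eq_of_coprime_index hO hL
      (Layer.coprime_index_pElemClosure L)))

/-- A component containing a central involution `z` as its only involution, with centre `⟨z⟩`. -/
structure Tight (L : Subgroup Q) (z : Q) : Prop where
  comp : IsComponent L
  mem : z ∈ L
  ne : z ≠ 1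
  sq : z * z = 1
  central : ∀ g, z * g = g * z
  uniq : ∀ x ∈ L, x * x = 1 → x = 1 ∨ x = z
  cent : ∀ x ∈ L, x ∈ centralizer (L : Set Q) → x = 1 ∨ x = z

variable {L : Subgroup Q} {z : Q}

theorem Tight.center_comm (hL : Tight L z) {x : ↥L} (hx : x ∈ center ↥L) :
    (x : Q) = 1 ∨ (x : Q) = z :=
  hL.cent x x.2 ((Layer.mem_map_center_iff L).1 ⟨x, hx, rfl⟩).2

theorem Tight.mem_center (hL : Tight L z) : (⟨z, hL.mem⟩ : ↥L) ∈ center ↥L :=
  Subgroup.mem_center_iff.2 fun y => Subtype.ext (hL.central y).symm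

/-- There is an element of order four. -/
theorem Tight.exists_sq (hL : Tight L z) : ∃ j ∈ L, j * j = z := by
  have : Fact (Nat.Prime 2) := ⟨Nat.prime_two⟩
  have hperf : Group.IsPerfect ↥L := hL.comp.2.1
  have hz : (⟨z, hL.mem⟩ : ↥L) ^ (center ↥L).index = 1 := by
    have hle : commutator ↥L ≤ (MonoidHom.transferCenterPow ↥L).ker := by
      rw [_root_.commutator_def, commutator_le]
      intro a _ b _
      rw [MonoidHom.mem_ker, map_commutatorElement, commutatorElement_eq_one_iff_mul_comm]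
      exact Subtype.ext (Subgroup.mem_center_iff.1 (MonoidHom.transferCenterPow ↥L b).2 _)
    rw [Group.IsPerfect.commutator_eq_top] at hle
    have h := congrArg Subtype.val (MonoidHom.mem_ker.1 (hle (mem_top (⟨z, hL.mem⟩ : ↥L))))
    rwa [MonoidHom.transferCenterPow_apply] at h
  have h2 : 2 ∣ Nat.card (↥L ⧸ center ↥L) := by
    have h := congrArg Subtype.val hz
    rw [SubmonoidClass.coe_pow] at h
    have hd := orderOf_dvd_of_pow_eq_one h
    rwa [orderOf_eq_prime (by rw [pow_two, hL.sq]) hL.ne, index_eq_card] at hd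
  obtain ⟨x, hx⟩ := exists_prime_orderOf_dvd_card' 2 h2
  obtain ⟨x, rfl⟩ := QuotientGroup.mk'_surjective (center ↥L) x
  refine ⟨x, x.2, ?_⟩
  have hxx : x * x ∈ center ↥L := by
    rw [← QuotientGroup.eq_one_iff]
    show QuotientGroup.mk' (center ↥L) (x * x) = 1
    rw [map_mul, ← pow_two, ← hx]
    exact pow_orderOf_eq_one _
  refine (hL.center_comm hxx).resolve_left fun h1 => ?_
  have hxc : x ∈ center ↥L := by
    rcases hL.uniq x x.2 (by simpa using h1) with h | h
    · rw [show x = 1 from Subtype.ext h]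
      exact one_mem _
    · rw [show x = ⟨z, hL.mem⟩ from Subtype.ext h]
      exact hL.mem_center
  rw [show QuotientGroup.mk' (center ↥L) x = 1 from (QuotientGroup.eq_one_iff _).2 hxc,
    orderOf_one] at hx
  exact absurd hx (by norm_num)

/-- An involution acting nontrivially on a tight component inverts one of its elements modulo `z`. -/
theorem Tight.exists_twist (hO : oddCore Q = ⊥) (hL : Tight L z) {φ : Q} (hφ : φ * φ = 1)
    (hn : φ ∈ normalizer (L : Set Q)) (hc : φ ∉ centralizer (L : Set Q)) :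
    ∃ j ∈ L, φ * j * φ = j * z := by
  by_contra! hcon
  have : Fact (Nat.Prime 2) := ⟨Nat.prime_two⟩
  have hφi : φ⁻¹ = φ := inv_eq_of_mul_eq_one_right hφ
  have hconjL : ∀ x ∈ L, φ * x * φ ∈ L := fun x hx => by
    have h := (mem_normalizer_iff.1 hn x).1 hx
    rwa [hφi] at h
  have hSn : zpowers φ ≤ normalizer (L : Set Q) := zpowers_le.2 hn
  set S := L ⊔ zpowers φ with hS
  have hφS : φ ∈ S := mem_sup_right (mem_zpowers φ)
  have hne : φ ≠ 1 := fun h => hc (h ▸ one_mem _)
  have hiso : IsIsolatedInvolution (⟨φ, hφS⟩ : ↥S) := by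
    refine ⟨by rw [orderOf_mk]; exact orderOf_eq_prime (by rw [pow_two, hφ]) hne, fun g hg => ?_⟩
    have hg' : (g : Q) ∈ ((L ⊔ zpowers φ : Subgroup Q) : Set Q) := g.2
    rw [coe_mul_of_right_le_normalizer_left _ _ hSn, Set.mem_mul] at hg'
    obtain ⟨l, hl, p, hp, hgl⟩ := hg'
    obtain ⟨i, rfl⟩ := mem_zpowers_iff.1 hp
    have hconj : (g : Q) * φ * (g : Q)⁻¹ = l * φ * l⁻¹ := by
      rw [← hgl, mul_inv_rev]
      have := (Commute.zpow_self φ i).eq
      calc l * φ ^ i * φ * ((φ ^ i)⁻¹ * l⁻¹) = l * (φ ^ i * φ * (φ ^ i)⁻¹) * l⁻¹ := by group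
        _ = _ := by rw [this, mul_inv_cancel_right]
    have hcm : Commute φ (l * φ * l⁻¹) := by
      have h : Commute φ ((g : Q) * φ * (g : Q)⁻¹) := hg.map S.subtype
      rwa [hconj] at h
    obtain ⟨u, hu⟩ : ∃ u, u = l * φ * l⁻¹ * φ := ⟨_, rfl⟩
    have huL : u ∈ L := by
      have h : u = l * (φ * l⁻¹ * φ) := by rw [hu]; group
      rw [h]
      exact mul_mem hl (hconjL _ (inv_mem hl))
    have hu2 : u * u = 1 := by
      rw [hu, mul_assoc, ← mul_assoc φ, hcm.eq, mul_assoc (l * φ * l⁻¹) φ, hφ, mul_one,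
        show l * φ * l⁻¹ * (l * φ * l⁻¹) = l * (φ * φ) * l⁻¹ by group, hφ, mul_one, mul_inv_cancel]
    refine Subtype.ext ?_
    show (g : Q) * φ * (g : Q)⁻¹ = φ
    rw [hconj]
    rcases hL.uniq u huL hu2 with h | h
    · rw [hu] at h
      exact (eq_inv_of_mul_eq_one_left h).trans hφi
    · exfalso
      refine hcon l hl ?_
      rw [hu] at h
      have hφl : φ * l⁻¹ * φ = l⁻¹ * z := by
        rw [← h]
        group
      have h' := congrArg (·⁻¹) hφl
      simp only [mul_inv_rev, inv_inv, hφi, inv_eq_of_mul_eq_one_right hL.sq] at h'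
      rw [mul_assoc, h', hL.central]
  -- hence `φ` centralises `L`
  refine hc ?_
  rw [mem_centralizer_iff]
  intro l hl
  have hz := Invol.zstar hiso (⟨l, mem_sup_left hl⟩ : ↥S)
  have hmem : φ * l * φ * l⁻¹ ∈ L ⊓ (oddCore ↥S).map S.subtype := by
    refine ⟨L.mul_mem (hconjL l hl) (L.inv_mem hl), ⟨_, hz, ?_⟩⟩
    show φ * l * φ⁻¹ * l⁻¹ = _
    rw [hφi]
  have hle : L ⊓ (oddCore ↥S).map S.subtype = ⊥ := by
    set N := (oddCore ↥S).map S.subtype with hN
    have hnorm : L ≤ normalizer (N : Set Q) := by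
      refine le_trans (le_sup_left : L ≤ S) (Subgroup.le_normalizer_iff.2 ?_)
      rintro s hs _ ⟨x, hx, rfl⟩
      exact ⟨⟨s, hs⟩ * x * ⟨s, hs⟩⁻¹, Core.pPrimeCore_normal.conj_mem x hx _, rfl⟩
    have : (N.subgroupOf L).Normal := normal_subgroupOf_of_le_normalizer hnorm
    have h := Core.le_pPrimeCore (p := 2) (N := N.subgroupOf L) (by
      rw [← card_map_of_injective L.subtype_injective, subgroupOf_map_subtype]
      refine Nat.Coprime.coprime_dvd_left (card_dvd_of_le inf_le_left) ?_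
      rw [hN, card_map_of_injective S.subtype_injective]
      exact Core.coprime_card_pPrimeCore)
    rw [show pPrimeCore 2 ↥L = ⊥ from oddCore_component hO hL.comp] at h
    rw [← le_bot_iff, inf_comm]
    intro x hx
    have := h (show (⟨x, hx.2⟩ : ↥L) ∈ N.subgroupOf L from hx.1)
    rw [Subgroup.mem_bot] at this ⊢
    exact congrArg Subtype.val this
  rw [hle, Subgroup.mem_bot] at hmem
  have h1 : φ * l * φ = l := mul_inv_eq_one.1 hmem
  conv_lhs => rw [← h1]
  rw [mul_assoc (φ * l), hφ, mul_one]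

/-- An element of order four has a conjugate anticommuting with it. -/
theorem Tight.exists_anticommute (hO : oddCore Q = ⊥) (hL : Tight L z) {a : Q} (ha : a ∈ L)
    (ha2 : a * a = z) : ∃ l ∈ L, a * (l * a * l⁻¹) * a⁻¹ = l * a * l⁻¹ * z := by
  by_contra! hcon
  have : Fact (Nat.Prime 2) := ⟨Nat.prime_two⟩
  set f := QuotientGroup.mk' (center ↥L) with hf
  set A : ↥L := ⟨a, ha⟩ with hA
  have hAc : A ∉ center ↥L := fun h => by
    rcases hL.center_comm h with h1 | h1
    · exact hL.ne (by rw [← ha2, show a = 1 from h1, one_mul])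
    · refine hL.ne ?_
      rw [show a = z from h1, hL.sq] at ha2
      exact ha2.symm
  have hAf : f A ≠ 1 := fun h => hAc ((QuotientGroup.eq_one_iff _).1 h)
  have hAsq : f A * f A = 1 := by
    rw [← map_mul]
    exact (QuotientGroup.eq_one_iff _).2
      ((show A * A = ⟨z, hL.mem⟩ from Subtype.ext ha2) ▸ hL.mem_center)
  have hiso : IsIsolatedInvolution (f A) := by
    refine ⟨orderOf_eq_prime (by rw [pow_two, hAsq]) hAf, fun g hg => ?_⟩
    obtain ⟨g, rfl⟩ := QuotientGroup.mk'_surjective (center ↥L) g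
    rw [← map_inv, ← map_mul, ← map_mul] at hg ⊢
    set B := g * A * g⁻¹ with hB
    have hc : A * B * A⁻¹ * B⁻¹ ∈ center ↥L := by
      rw [← QuotientGroup.eq_one_iff]
      show f (A * B * A⁻¹ * B⁻¹) = 1
      simp only [map_mul, map_inv]
      rw [hg.eq, mul_inv_cancel_right, mul_inv_cancel]
    have hb2 : (B : Q) * B = z := by
      show (g : Q) * a * (g : Q)⁻¹ * ((g : Q) * a * (g : Q)⁻¹) = z
      rw [show (g : Q) * a * (g : Q)⁻¹ * ((g : Q) * a * (g : Q)⁻¹) = g * (a * a) * (g : Q)⁻¹ by group,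
        ha2, ← hL.central, mul_inv_cancel_right]
    rcases hL.center_comm hc with h1 | h1
    · have hab : a * B = B * a := mul_inv_eq_iff_eq_mul.1 (mul_inv_eq_one.1 h1)
      have hsq : a * B * (a * B) = 1 := by
        rw [mul_assoc, ← mul_assoc (B : Q), ← hab, mul_assoc, hb2, ← mul_assoc, ha2, hL.sq]
      have hcen : A * B ∈ center ↥L := by
        rcases hL.uniq _ (mul_mem ha B.2) hsq with h | h
        · rw [show A * B = 1 from Subtype.ext h]
          exact one_mem _
        · rw [show A * B = ⟨z, hL.mem⟩ from Subtype.ext h]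
          exact hL.mem_center
      have h2 := (QuotientGroup.eq_one_iff _).2 hcen
      have h3 : f A * f B = 1 := by rw [← map_mul]; exact h2
      exact mul_left_cancel (h3.trans hAsq.symm)
    · refine absurd ?_ (hcon g g.2)
      exact (mul_inv_eq_iff_eq_mul.1 h1).trans (hL.central _)
  have hqs := hL.comp.2
  have hOb : oddCore (↥L ⧸ center ↥L) = ⊥ := by
    set N := pPrimeCore 2 (↥L ⧸ center ↥L) with hN
    have hNn : (N.comap f).Normal := Core.pPrimeCore_normal.comap f
    rcases Layer.qs_normal_cases hqs hNn with h | h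
    · exfalso
      have hmem : A ∈ N.comap f := h ▸ mem_top A
      have h1 : orderOf (f A) ∣ Nat.card N := N.orderOf_dvd_natCard hmem
      rw [orderOf_eq_prime (by rw [pow_two, hAsq]) hAf] at h1
      exact Core.not_dvd_card_pPrimeCore h1
    · have hs := map_comap_eq_self_of_surjective (QuotientGroup.mk'_surjective (center ↥L)) N
      show N = ⊥
      rw [← hs, eq_bot_iff]
      exact (map_mono h).trans (QuotientGroup.map_mk'_self _).le
  have hcen : ∀ g : ↥L, A * g * A⁻¹ * g⁻¹ ∈ center ↥L := fun g => by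
    rw [← QuotientGroup.eq_one_iff]
    have h := Invol.zstar hiso (f g)
    rw [hOb, Subgroup.mem_bot, ← map_inv, ← map_inv, ← map_mul, ← map_mul, ← map_mul] at h
    exact h
  refine hAc (Subgroup.mem_center_iff.2 fun g => Subtype.ext ?_)
  have h := Layer.mem_centralizer_of_commutator_central (Layer.qs_subgroup_perfect hqs) (w := a)
    fun k hk => by
      obtain ⟨x, hx, hxe⟩ := (⟨_, hcen ⟨k, hk⟩, rfl⟩ : a * k * a⁻¹ * k⁻¹ ∈ (center ↥L).map L.subtype)
      exact (Layer.mem_map_center_iff L).1 ⟨x, hx, hxe⟩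
  exact mem_centralizer_iff.1 h g g.2

/-! ### Projections on components -/

theorem layer_le_sup_centralizer {L : Subgroup Q} (hL : IsComponent L) :
    layer Q ≤ L ⊔ centralizer (L : Set Q) := sSup_le fun K hK => by
  rcases eq_or_ne K L with rfl | hne
  · exact le_sup_left
  · exact le_sup_of_le_right
      (commutator_eq_bot_iff_le_centralizer.mp (Layer.components_commute hK hL hne))

theorem layer_decomp {L : Subgroup Q} (hL : IsComponent L) {x : Q} (hx : x ∈ layer Q) :
    ∃ l ∈ L, ∃ c ∈ centralizer (L : Set Q), l * c = x := by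
  have h : x ∈ ((L ⊔ centralizer (L : Set Q) : Subgroup Q) : Set Q) :=
    layer_le_sup_centralizer hL hx
  rw [coe_mul_of_left_le_normalizer_right _ _
    (Coprime.le_normalizer_centralizer le_normalizer), Set.mem_mul] at h
  exact h

/-- A 2-component group mapped into the layer either centralises a component of the same size or
induces all its inner automorphisms, its centre modulo the core acting trivially. -/
theorem layer_proj {P : Type u} [Group P] [Finite P] (hP : Layer.IsPCompGroup 2 P) (π : P →* Q)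
    (hπ : ∀ x, π x ∈ layer Q) {L : Subgroup Q} (hL : IsComponent L)
    (hcard : Nat.card (↥L ⧸ center ↥L) =
      Nat.card ((P ⧸ oddCore P) ⧸ center (P ⧸ oddCore P))) :
    (∀ x, π x ∈ centralizer (L : Set Q)) ∨
      ((∀ l ∈ L, ∃ x, l⁻¹ * π x ∈ centralizer (L : Set Q)) ∧
        ∀ x, QuotientGroup.mk' (oddCore P) x ∈ center (P ⧸ oddCore P) →
          π x ∈ centralizer (L : Set Q)) := by
  have : Fact (Nat.Prime 2) := ⟨Nat.prime_two⟩
  let ψ : P →* MulAut ↥L := (Layer.autHom L).comp
    (π.codRestrict (normalizer (L : Set Q)) fun x => Layer.layer_le_normalizer_component hL (hπ x))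
  have hψ : ∀ x, ψ x = 1 ↔ π x ∈ centralizer (L : Set Q) := fun x => Layer.autHom_eq_one_iff _
  set R0 := (MulAut.conj : ↥L →* MulAut ↥L).range with hR0
  have hR : ψ.range ≤ R0 := by
    rintro _ ⟨x, rfl⟩
    obtain ⟨l, hl, c, hc, hlc⟩ := layer_decomp hL (hπ x)
    refine ⟨⟨l, hl⟩, ?_⟩
    refine MulEquiv.ext fun y => Subtype.ext ?_
    show l * y * l⁻¹ = π x * y * (π x)⁻¹
    rw [← hlc, mul_inv_rev, show l * c * (y : Q) * (c⁻¹ * l⁻¹) = l * (c * y * c⁻¹) * l⁻¹ by group,
      ← mem_centralizer_iff.1 hc y y.2, mul_inv_cancel_right]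
  have hker : (MulAut.conj : ↥L →* MulAut ↥L).ker = center ↥L := by
    ext g
    rw [MonoidHom.mem_ker, Subgroup.mem_center_iff, MulEquiv.ext_iff]
    refine forall_congr' fun y => ?_
    rw [MulAut.conj_apply, MulAut.one_apply, mul_inv_eq_iff_eq_mul]
    exact eq_comm
  have hR0c : Nat.card R0 = Nat.card (↥L ⧸ center ↥L) := by
    rw [hR0, ← index_ker, hker, index_eq_card]
  set m := QuotientGroup.mk' (oddCore P) with hm
  set N := ψ.ker with hN
  rcases Layer.qs_normal_cases hP.2 ((MonoidHom.normal_ker ψ).map m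
    (QuotientGroup.mk'_surjective _)) with h | h
  · left
    intro x
    rw [← hψ]
    have hle : Layer.pElemClosure 2 (⊤ : Subgroup P) ≤ N := by
      refine (closure_le _).2 ?_
      rintro y ⟨-, k, hk⟩
      show ψ y = 1
      obtain ⟨n, hn, hny⟩ : m y ∈ N.map m := h ▸ mem_top _
      obtain ⟨o, ho⟩ : ∃ o, n⁻¹ * y = o := ⟨_, rfl⟩
      have hoO : o ∈ oddCore P := by
        rw [← ho, ← QuotientGroup.eq_one_iff]
        show m (n⁻¹ * y) = 1
        rw [map_mul, map_inv, hny, inv_mul_cancel]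
      have h1 : ψ y = ψ o := by rw [← ho, map_mul, map_inv, MonoidHom.mem_ker.1 hn]; simp
      have h2 : orderOf (ψ y) ∣ Nat.card (oddCore P) :=
        h1 ▸ (orderOf_map_dvd ψ o).trans ((oddCore P).orderOf_dvd_natCard hoO)
      exact orderOf_eq_one_iff.1 (Nat.eq_one_of_dvd_coprimes
        (Core.coprime_card_pPrimeCore.pow_right k) h2
        (orderOf_dvd_of_pow_eq_one (by rw [← map_pow, hk, map_one])))
    exact hle (hP.1.ge (mem_top x))
  · right
    set Z := (center (P ⧸ oddCore P)).comap m with hZ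
    have hNZ : N ≤ Z := map_le_iff_le_comap.1 h
    have hZi : Z.index = Nat.card (↥L ⧸ center ↥L) := by
      rw [hZ, index_comap_of_surjective _ (QuotientGroup.mk'_surjective _), index_eq_card, hcard]
    have hNi : N.index ≤ Z.index := by
      rw [hN, index_ker, hZi, ← hR0c]
      exact Subgroup.card_le_of_le hR
    have heq : N = Z := by
      refine le_antisymm hNZ ?_
      have h1 := Subgroup.card_mul_index N
      have h2 := Subgroup.card_mul_index Z
      refine (Subgroup.eq_of_le_of_card_ge hNZ ?_).ge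
      have hpos : 0 < Z.index := Nat.pos_of_ne_zero (index_ne_zero_of_finite)
      by_contra hlt
      push Not at hlt
      nlinarith
    refine ⟨fun l hl => ?_, fun x hx => (hψ x).1 (MonoidHom.mem_ker.1 (heq.ge hx))⟩
    have hsurj : ψ.range = R0 := Subgroup.eq_of_le_of_card_ge hR (by
      rw [hR0c, ← hZi, ← heq, hN, index_ker])
    obtain ⟨x, hx⟩ : MulAut.conj (⟨l, hl⟩ : ↥L) ∈ ψ.range := hsurj ▸ ⟨_, rfl⟩
    refine ⟨x, mem_centralizer_iff.2 fun y hy => ?_⟩
    have he : π x * y * (π x)⁻¹ = l * y * l⁻¹ := by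
      have h := congrArg Subtype.val (DFunLike.congr_fun hx ⟨y, hy⟩)
      exact h
    calc y * (l⁻¹ * π x) = l⁻¹ * (l * y * l⁻¹) * π x := by group
      _ = l⁻¹ * π x * y := by rw [← he]; group

/-- An element commuting with enough elements inducing all inner automorphisms centralises. -/
theorem centralizes_of_inner {L : Subgroup Q} (hL : IsComponent L) {g : Q}
    (hg : g ∈ normalizer (L : Set Q))
    (h : ∀ l ∈ L, ∃ r, g * r = r * g ∧ l⁻¹ * r ∈ centralizer (L : Set Q)) :
    g ∈ centralizer (L : Set Q) := by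
  refine Layer.mem_centralizer_of_commutator_central (Layer.qs_subgroup_perfect hL.2) fun l hl => ?_
  obtain ⟨r, hr, hc⟩ := h l hl
  have hgl : g * l * g⁻¹ ∈ L := (mem_normalizer_iff.1 hg l).1 hl
  have hc' : g * (l⁻¹ * r) * g⁻¹ ∈ centralizer (L : Set Q) :=
    (mem_normalizer_iff.1 (Coprime.le_normalizer_centralizer le_rfl hg) _).1 hc
  have hmem : (g * l * g⁻¹)⁻¹ * l ∈ L ⊓ centralizer (L : Set Q) := by
    refine ⟨L.mul_mem (L.inv_mem hgl) hl, ?_⟩
    have : (g * l * g⁻¹)⁻¹ * l = g * (l⁻¹ * r) * g⁻¹ * (l⁻¹ * r)⁻¹ := by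
      calc (g * l * g⁻¹)⁻¹ * l = g * l⁻¹ * (g⁻¹ * (r * g)) * g⁻¹ * (r⁻¹ * l) := by group
        _ = _ := by rw [← hr]; group
    rw [this]
    exact (centralizer (L : Set Q)).mul_mem hc' ((centralizer (L : Set Q)).inv_mem hc)
  rw [commutatorElement_def]
  have e : g * l * g⁻¹ * l⁻¹ = l * ((g * l * g⁻¹)⁻¹ * l)⁻¹ * l⁻¹ := by group
  rw [e, mem_centralizer_iff.1 (inv_mem hmem.2) l hl, mul_inv_cancel_right]
  exact inv_mem hmem

/-! ### Diagonals -/

/-- The diagonal of a component moved by an involution. -/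
theorem exists_diag (hO : oddCore Q = ⊥) (hL : Tight L z) {φ : Q} (hφ : φ * φ = 1)
    (hn : φ ∉ normalizer (L : Set Q)) :
    ∃ D : Subgroup Q, D ≤ centralizer ({φ} : Set Q) ∧
      (D.subgroupOf (centralizer ({φ} : Set Q))).IsSubnormal ∧ Layer.IsPCompGroup 2 ↥D ∧
      oddCore ↥D = ⊥ ∧ center ↥D = ⊥ ∧ Nat.card ↥D = Nat.card (↥L ⧸ center ↥L) ∧
      (∀ x ∈ L, x * (φ * x * φ) ∈ D) ∧
      D ≤ L ⊔ L.map (MulAut.conj φ).toMonoidHom := by
  have : Fact (Nat.Prime 2) := ⟨Nat.prime_two⟩
  have hφi : φ⁻¹ = φ := inv_eq_of_mul_eq_one_right hφ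
  set L' := L.map (MulAut.conj φ).toMonoidHom with hL'
  have hL'c : IsComponent L' := Layer.isComponent_map_conj hL.comp φ
  have hne : L ≠ L' := fun h => hn (mem_normalizer_iff_map_conj_eq.2 h.symm)
  have hcomm : ⁅L, L'⁆ = ⊥ := Layer.components_commute hL.comp hL'c hne
  have hmem' : ∀ x ∈ L, φ * x * φ ∈ L' := fun x hx => ⟨x, hx, by
    show φ * x * φ⁻¹ = _
    rw [hφi]⟩
  have hconj : ∀ x y : Q, φ * (x * y) * φ = φ * x * φ * (φ * y * φ) := fun x y => by
    rw [show φ * x * φ * (φ * y * φ) = φ * x * (φ * φ) * y * φ by group, hφ]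
    group
  have hcl : ∀ x ∈ L, ∀ y ∈ L, Commute x (φ * y * φ) := fun x hx y hy =>
    Layer.commute_of_commutator_eq_bot hcomm hx (hmem' y hy)
  let δ : ↥L →* Q :=
    { toFun := fun x => x * (φ * x * φ)
      map_one' := by simp [hφ]
      map_mul' := fun a b => by
        rw [coe_mul, hconj]
        show (a : Q) * b * (φ * a * φ * (φ * b * φ)) = _
        rw [mul_assoc (a : Q) (b : Q), ← mul_assoc (b : Q), (hcl b b.2 a a.2).eq]
        simp only [mul_assoc] }
  have hδker : δ.ker = center ↥L := by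
    ext x
    constructor
    · intro hx
      have h1 : (x : Q) = (φ * x * φ)⁻¹ := eq_inv_of_mul_eq_one_left hx
      refine Subgroup.mem_center_iff.2 fun y => Subtype.ext ?_
      show (y : Q) * x = x * y
      rw [h1]
      exact (hcl y y.2 x x.2).inv_right.eq
    · intro hx
      show (x : Q) * (φ * x * φ) = 1
      rcases hL.center_comm hx with h | h <;> rw [h]
      · simp [hφ]
      · rw [← hL.central φ, mul_assoc z, hφ, mul_one, hL.sq]
  let e : ↥L ⧸ center ↥L ≃* ↥δ.range :=
    (QuotientGroup.quotientMulEquivOfEq hδker.symm).trans (QuotientGroup.quotientKerEquivRange δ)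
  have hcenter : center ↥δ.range = ⊥ := by
    rw [eq_bot_iff]
    rintro ⟨_, x, rfl⟩ hd
    rw [Subgroup.mem_bot]
    refine Subtype.ext (MonoidHom.mem_ker.1 (hδker.ge ?_))
    have h : ∀ y : ↥L, y * x * y⁻¹ * x⁻¹ ∈ center ↥L := fun y => by
      rw [← hδker, MonoidHom.mem_ker, map_mul, map_mul, map_mul, map_inv, map_inv]
      have h0 : δ y * δ x = δ x * δ y :=
        congrArg Subtype.val (Subgroup.mem_center_iff.1 hd ⟨δ y, y, rfl⟩)
      rw [h0, mul_inv_cancel_right, mul_inv_cancel]
    have h' := Layer.mem_centralizer_of_commutator_central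
      (Layer.qs_subgroup_perfect hL.comp.2) (w := (x : Q)) fun k hk => by
        obtain ⟨c, hc, hce⟩ := (⟨_, inv_mem (h ⟨k, hk⟩), rfl⟩ :
          (((⟨k, hk⟩ : ↥L) * x * (⟨k, hk⟩ : ↥L)⁻¹ * x⁻¹)⁻¹ : ↥L).1 ∈ (center ↥L).map L.subtype)
        have hce' : (c : Q) = ⁅(x : Q), k⁆ := by
          rw [show (c : Q) = _ from hce, commutatorElement_def]
          simp [mul_assoc]
        exact (Layer.mem_map_center_iff L).1 ⟨c, hc, hce'⟩
    exact Subgroup.mem_center_iff.2 fun y => Subtype.ext (mem_centralizer_iff.1 h' y y.2)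
  have hcardD : Nat.card ↥δ.range = Nat.card (↥L ⧸ center ↥L) := (Nat.card_congr e.toEquiv).symm
  have hntL : Nontrivial (↥L ⧸ center ↥L) :=
    QuotientGroup.nontrivial_iff.2 (Layer.qs_center_ne_top hL.comp.2)
  have hnt : Nontrivial ↥δ.range := e.toEquiv.nontrivial_congr.1 hntL
  have hP : Layer.IsPCompGroup 2 ↥δ.range := Layer.isPCompGroup_of_surjective
    (component_pComp hO hL.comp) δ.rangeRestrict_surjective
  have hqs : IsQuasisimple ↥δ.range := Layer.qs_of_surjective hL.comp.2 δ.rangeRestrict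
    δ.rangeRestrict_surjective
  have hOD : oddCore ↥δ.range = ⊥ := by
    rcases Layer.qs_normal_cases hqs (Core.pPrimeCore_normal (p := 2)) with h | h
    · exfalso
      obtain ⟨j, hj, hj2⟩ := hL.exists_sq
      have hne1 : δ.rangeRestrict ⟨j, hj⟩ ≠ 1 := fun h1 => by
        have := hL.center_comm (hδker.le (MonoidHom.mem_ker.2 (congrArg Subtype.val h1)))
        rcases this with h2 | h2
        · exact hL.ne (by rw [← hj2, show j = 1 from h2, one_mul])
        · rw [show j = z from h2, hL.sq] at hj2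
          exact hL.ne hj2.symm
      have hsq : δ.rangeRestrict ⟨j, hj⟩ ^ 2 = 1 := by
        rw [← map_pow]
        refine Subtype.ext (MonoidHom.mem_ker.1 (hδker.ge ?_))
        rw [pow_two, show (⟨j, hj⟩ : ↥L) * ⟨j, hj⟩ = ⟨z, hL.mem⟩ from Subtype.ext hj2]
        exact hL.mem_center
      refine Core.not_dvd_card_pPrimeCore (p := 2) (G := ↥δ.range) ?_
      rw [show pPrimeCore 2 ↥δ.range = ⊤ from h, Subgroup.card_top, ← orderOf_eq_prime hsq hne1]
      exact orderOf_dvd_natCard _
    · exact le_bot_iff.1 (h.trans hcenter.le)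
  have hfixD : δ.range ≤ centralizer ({φ} : Set Q) := by
    rintro _ ⟨x, rfl⟩
    rw [mem_centralizer_singleton_iff]
    show (x : Q) * (φ * x * φ) * φ = φ * ((x : Q) * (φ * x * φ))
    conv_rhs => rw [(hcl x x.2 x x.2).eq]
    simp only [← mul_assoc, hφ, one_mul]
    simp only [mul_assoc, hφ, mul_one]
  refine ⟨δ.range, ?_, ?_, hP, hOD, hcenter, hcardD, fun x hx => ⟨⟨x, hx⟩, rfl⟩, ?_⟩
  · exact hfixD
  · set E := L ⊔ L' with hE
    set CE := E ⊓ centralizer ({φ} : Set Q) with hCE
    have hEsn : E.IsSubnormal := by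
      rw [hE, ← sSup_pair]
      refine Layer.isSubnormal_sSup ?_
      rintro K (rfl | rfl)
      exacts [hL.comp.1, hL'c.1]
    have hCEsn : (CE.subgroupOf (centralizer ({φ} : Set Q))).IsSubnormal := by
      have h := hEsn.comap (centralizer ({φ} : Set Q)).subtype
      convert h using 1
      ext x
      exact ⟨fun hx => hx.1, fun hx => ⟨hx, x.2⟩⟩
    have hDC : δ.range ≤ CE := by
      rintro _ ⟨x, rfl⟩
      exact ⟨mul_mem_sup x.2 (hmem' x x.2), hfixD ⟨x, rfl⟩⟩
    have hnormD : CE ≤ normalizer (δ.range : Set Q) := by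
      rintro w ⟨hwE, hwφ⟩
      obtain ⟨x, hx, y, hy, rfl⟩ := (Coprime.mem_sup_of_le_normalizer
        (le_trans (commutator_eq_bot_iff_le_centralizer.1
          (Layer.commutator_eq_bot_symm hcomm)) (centralizer_le_normalizer _))).1 hwE
      obtain ⟨y, hyL, rfl⟩ := hy
      have hy' : (MulAut.conj φ).toMonoidHom y = φ * y * φ := by
        show φ * y * φ⁻¹ = _
        rw [hφi]
      rw [hy'] at hwφ ⊢
      have hφw : φ * (x * (φ * y * φ)) * φ = φ * x * φ * y := by
        rw [hconj]
        congr 1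
        simp [← mul_assoc, hφ]
        try simp [mul_assoc, hφ]
      have hfix : x * (φ * y * φ) = φ * x * φ * y := by
        rw [← hφw, ← (mem_centralizer_singleton_iff.1 hwφ), mul_assoc, mul_assoc, mul_assoc, hφ]
        simp
      have hdec : x * (φ * y * φ) = δ ⟨y, hyL⟩ * (y⁻¹ * x) := by
        show _ = y * (φ * y * φ) * (y⁻¹ * x)
        rw [mul_assoc y, ← (hcl (y⁻¹ * x) (mul_mem (inv_mem hyL) hx) y hyL).eq, ← mul_assoc y,
          mul_inv_cancel_left]
      rw [hdec]
      refine mul_mem (le_normalizer ⟨_, rfl⟩) (centralizer_le_normalizer _ ?_)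
      have hc : y⁻¹ * x ∈ centralizer (L : Set Q) := by
        have hmem : y⁻¹ * x ∈ L' := by
          have h := congrArg (fun s => y⁻¹ * s * (φ * y * φ)⁻¹) hfix
          rw [← mul_assoc y⁻¹ x, mul_inv_cancel_right] at h
          rw [h, ← mul_assoc, (hcl y⁻¹ (inv_mem hyL) x hx).eq, mul_assoc (φ * x * φ),
            inv_mul_cancel, mul_one]
          exact mul_mem (hmem' x hx) (inv_mem (hmem' y hyL))
        exact commutator_eq_bot_iff_le_centralizer.1 (Layer.commutator_eq_bot_symm hcomm) hmem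
      rw [mem_centralizer_iff]
      rintro _ ⟨u, rfl⟩
      refine (Commute.mul_left ?_ ?_).eq
      · exact mem_centralizer_iff.1 hc u u.2
      · exact (hcl (y⁻¹ * x) (mul_mem (inv_mem hyL) hx) u u.2).symm
    refine Subgroup.IsSubnormal.step _ _ (fun x hx => hDC hx) hCEsn ?_
    refine ⟨fun d hd c => ?_⟩
    exact (mem_normalizer_iff.1 (hnormD c.2) _).1 hd
  · rintro _ ⟨x, rfl⟩
    exact mul_mem_sup x.2 (hmem' x x.2)

/-! ### Lifts -/

/-- A 2-component group with trivial core in the range of a map with kernel of odd order lifts. -/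
theorem exists_lift {H : Type u} [Group H] [Finite H] (g : H →* Q)
    (hker : (Nat.card g.ker).Coprime 2) {K : Subgroup Q} (hKr : K ≤ g.range)
    (hKsn : (K.subgroupOf g.range).IsSubnormal) (hK : Layer.IsPCompGroup 2 ↥K)
    (hOK : oddCore ↥K = ⊥) :
    ∃ P : Subgroup H, P.IsSubnormal ∧ Layer.IsPCompGroup 2 ↥P ∧ P.map g = K ∧
      ∃ e : ↥P ⧸ oddCore ↥P ≃* ↥K, ∀ x : ↥P, ((e (QuotientGroup.mk' (oddCore ↥P) x)) : Q) = g x := by
  have : Fact (Nat.Prime 2) := ⟨Nat.prime_two⟩
  set P := Layer.pElemClosure 2 (K.comap g) with hP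
  have hle : P.map g ≤ K := map_le_iff_le_comap.2 (Layer.pElemClosure_le _)
  have hmap : P.map g = K := by
    refine le_antisymm hle ?_
    rw [← (Layer.pElemClosure_top_eq_top_iff K).1 hK.1]
    refine (closure_le _).2 ?_
    rintro y ⟨hy, k, hk⟩
    obtain ⟨x, rfl⟩ := hKr hy
    obtain ⟨n, ⟨l, hl⟩, hn⟩ := exists_twoPart x
    refine ⟨x ^ n, Layer.pElem_mem_pElemClosure ?_ (k := l) hl, hn g k hk⟩
    exact pow_mem (show x ∈ K.comap g from hy) n
  have hsn : P.IsSubnormal := by
    refine Layer.isSubnormal_pElemClosure ?_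
    have h := hKsn.comap g.rangeRestrict
    convert h using 1
    ext x
    rfl
  let π : ↥P →* ↥K := (MulEquiv.subgroupCongr hmap).toMonoidHom.comp (g.subgroupMap P)
  have hπs : Function.Surjective π :=
    (MulEquiv.subgroupCongr hmap).surjective.comp (g.subgroupMap_surjective P)
  have hπv : ∀ x : ↥P, (π x : Q) = g x := fun x => rfl
  have hπk : π.ker = oddCore ↥P := by
    refine le_antisymm (Core.le_pPrimeCore ?_) ?_
    · refine Nat.Coprime.coprime_dvd_left ?_ hker
      rw [← card_map_of_injective P.subtype_injective (K := π.ker)]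
      refine card_dvd_of_le ?_
      rintro _ ⟨x, hx, rfl⟩
      exact congrArg Subtype.val hx
    · rw [← MonoidHom.comap_bot, ← hOK, ← map_le_iff_le_comap]
      exact Core.map_pPrimeCore_le_of_surjective hπs
  let e : ↥P ⧸ oddCore ↥P ≃* ↥K :=
    (QuotientGroup.quotientMulEquivOfEq hπk.symm).trans
      (QuotientGroup.quotientKerEquivOfSurjective π hπs)
  refine ⟨P, hsn, ⟨(Layer.pElemClosure_top_eq_top_iff P).2 (Layer.pElemClosure_pElemClosure _), ?_⟩,
    hmap, e, fun x => rfl⟩
  exact Layer.isQuasisimple_congr e.symm (Layer.isQuasisimple_congr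
    ((QuotientGroup.quotientMulEquivOfEq hOK).trans QuotientGroup.quotientBot) hK.2)

end Cfsg.Agent.ClassicalInv
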