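import Cfsg.Agent.ClassicalInv.Abstract

/-!
Two commuting involutions `p`, `q`: the two maps of `H = C(p) ∩ C(q)` into `C(p) / O(C(p))` and
`C(q) / O(C(q))`, and 2-components with one involution.
-/

set_option autoImplicit false

namespace Cfsg.Agent.ClassicalInv

open Subgroup Cfsg
open scoped commutatorElement

universe u

variable {G : Type u} [Group G]

/-- The centraliser of an element. -/
abbrev C1 (p : G) : Subgroup G := centralizer ({p} : Set G)

/-- The centraliser of an element modulo its core. -/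
abbrev QQ (p : G) : Type u := ↥(C1 p) ⧸ pPrimeCore 2 ↥(C1 p)

/-- The quotient map. -/
abbrev qmk (p : G) : ↥(C1 p) →* QQ p := QuotientGroup.mk' _

/-- The image of a subgroup. -/
abbrev img (p : G) (J : Subgroup G) : Subgroup (QQ p) := (J.subgroupOf (C1 p)).map (qmk p)

theorem self_mem (p : G) : p ∈ C1 p := mem_centralizer_singleton_iff.2 rfl

/-- The class of `p` itself. -/
abbrev bar (p : G) : QQ p := qmk p ⟨p, self_mem p⟩

theorem bar_central (p : G) (g : QQ p) : bar p * g = g * bar p := by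
  obtain ⟨g, rfl⟩ := QuotientGroup.mk'_surjective _ g
  rw [← map_mul, ← map_mul]
  exact congrArg _ (Subtype.ext (mem_centralizer_singleton_iff.1 g.2).symm)

variable [Finite G]

theorem oddCore_QQ (p : G) : oddCore (QQ p) = ⊥ := by
  have : Fact (Nat.Prime 2) := ⟨Nat.prime_two⟩
  exact Core.pPrimeCore_quotient_eq_bot

theorem qmk_ker (p : G) : (Nat.card (qmk p).ker).Coprime 2 := by
  have : Fact (Nat.Prime 2) := ⟨Nat.prime_two⟩
  rw [QuotientGroup.ker_mk']
  exact Core.coprime_card_pPrimeCore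

/-- An element of 2-power order killed by a map with kernel of odd order. -/
theorem eq_one_of_killed {A B : Type*} [Group A] [Group B] (φ : A →* B)
    (hk : (Nat.card φ.ker).Coprime 2) {x : A} {k : ℕ} (hx : x ^ 2 ^ k = 1) (h : φ x = 1) :
    x = 1 :=
  orderOf_eq_one_iff.1 (Nat.eq_one_of_dvd_coprimes (hk.pow_right k)
    (φ.ker.orderOf_dvd_natCard (MonoidHom.mem_ker.2 h)) (orderOf_dvd_of_pow_eq_one hx))

theorem qmk_ne_one {p x : G} (hx : x ∈ C1 p) (h2 : x * x = 1) (hne : x ≠ 1) :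
    qmk p ⟨x, hx⟩ ≠ 1 := fun h => hne (congrArg Subtype.val
  (eq_one_of_killed (qmk p) (qmk_ker p) (k := 1)
    (Subtype.ext (by rw [SubmonoidClass.coe_pow, pow_one, pow_two]; exact h2)) h))

/-- Involutions conjugate in the quotient are conjugate by a lift. -/
theorem exists_conj_exact {p : G} {x y : ↥(C1 p)} (hx : x * x = 1) (hy : y * y = 1) {w : QQ p}
    (h : w * qmk p x * w⁻¹ = qmk p y) : ∃ c : ↥(C1 p), qmk p c = w ∧ c * x * c⁻¹ = y := by
  obtain ⟨c₀, rfl⟩ := QuotientGroup.mk'_surjective _ w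
  obtain ⟨x', hx'⟩ : ∃ x', x' = c₀ * x * c₀⁻¹ := ⟨_, rfl⟩
  have hxx : x' * x' = 1 := by
    rw [hx', show c₀ * x * c₀⁻¹ * (c₀ * x * c₀⁻¹) = c₀ * (x * x) * c₀⁻¹ by group, hx, mul_one,
      mul_inv_cancel]
  have hn : x' * y ∈ (qmk p).ker := by
    rw [MonoidHom.mem_ker, map_mul, hx', map_mul, map_mul, map_inv, h, ← map_mul, hy, map_one]
  obtain ⟨m, hm⟩ : Odd (orderOf (x' * y)) :=
    (Nat.coprime_two_right.1 (qmk_ker p)).of_dvd_nat ((qmk p).ker.orderOf_dvd_natCard hn)
  obtain ⟨n, hndef⟩ : ∃ n, n = x' * y := ⟨_, rfl⟩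
  rw [← hndef] at hn hm
  have hinv : x' * n * x' = n⁻¹ := by
    refine eq_inv_of_mul_eq_one_left ?_
    calc x' * n * x' * n = x' * x' * y * (x' * x') * y := by rw [hndef]; group
      _ = 1 := by rw [hxx, one_mul, mul_one, hy]
  have hr : x' * n ^ (m + 1) * x' = (n ^ (m + 1))⁻¹ := by
    have : x'⁻¹ = x' := inv_eq_of_mul_eq_one_right hxx
    conv_lhs => rw [show x' * n ^ (m + 1) * x' = x' * n ^ (m + 1) * x'⁻¹ by rw [this]]
    rw [← conj_pow, this, hinv, inv_pow]
  have h2 : n ^ (m + 1) * n ^ (m + 1) = n := by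
    rw [← pow_add, show m + 1 + (m + 1) = orderOf n + 1 by omega, pow_succ, pow_orderOf_eq_one,
      one_mul]
  refine ⟨(n ^ (m + 1))⁻¹ * c₀, ?_, ?_⟩
  · rw [map_mul, map_inv, map_pow, MonoidHom.mem_ker.1 hn, one_pow, inv_one, one_mul]
  · calc (n ^ (m + 1))⁻¹ * c₀ * x * ((n ^ (m + 1))⁻¹ * c₀)⁻¹
        = (n ^ (m + 1))⁻¹ * x' * n ^ (m + 1) := by rw [hx']; group
      _ = x' * n := by
          conv_lhs => rw [← hr]
          calc x' * n ^ (m + 1) * x' * x' * n ^ (m + 1)
              = x' * n ^ (m + 1) * (x' * x') * n ^ (m + 1) := by group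
            _ = _ := by rw [hxx, mul_one, mul_assoc, h2]
      _ = y := by rw [hndef, ← mul_assoc, hxx, one_mul]

/-! ### Two commuting involutions -/

/-- `p`, `q` commuting elements of order at most two and `H = C(p) ∩ C(q)`. -/
structure Two (p q : G) (H : Subgroup G) : Prop where
  sqp : p * p = 1
  sqq : q * q = 1
  comm : p * q = q * p
  eq : H = C1 p ⊓ C1 q

variable {p q : G} {H : Subgroup G}

omit [Finite G] in
theorem Two.symm (T : Two p q H) : Two q p H :=
  ⟨T.sqq, T.sqp, T.comm.symm, T.eq.trans (inf_comm _ _)⟩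

omit [Finite G] in
theorem Two.le (T : Two p q H) : H ≤ C1 p := T.eq.le.trans inf_le_left

omit [Finite G] in
theorem Two.mem_left (T : Two p q H) : p ∈ H :=
  T.eq.ge ⟨self_mem p, mem_centralizer_singleton_iff.2 T.comm⟩

omit [Finite G] in
theorem Two.mem_right (T : Two p q H) : q ∈ H := T.symm.mem_left

omit [Finite G] in
theorem Two.mem_of (T : Two p q H) {x : G} (hp : x ∈ C1 p) (hq : x * q = q * x) : x ∈ H :=
  T.eq.ge ⟨hp, mem_centralizer_singleton_iff.2 hq⟩

/-- The map into `C(p) / O(C(p))`. -/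
def Two.f (T : Two p q H) : ↥H →* QQ p := (qmk p).comp (Subgroup.inclusion T.le)

/-- `p` in `H`. -/
def Two.pH (T : Two p q H) : ↥H := ⟨p, T.mem_left⟩

/-- `q` in `H`. -/
def Two.qH (T : Two p q H) : ↥H := ⟨q, T.mem_right⟩

omit [Finite G] in
theorem Two.f_apply (T : Two p q H) (x : ↥H) : T.f x = qmk p ⟨x, T.le x.2⟩ := rfl

omit [Finite G] in
theorem Two.f_p (T : Two p q H) : T.f T.pH = bar p := rfl

omit [Finite G] in
theorem Two.qH_sq (T : Two p q H) : T.qH * T.qH = 1 := Subtype.ext T.sqq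

omit [Finite G] in
theorem Two.qH_comm (T : Two p q H) (x : ↥H) : T.qH * x = x * T.qH :=
  Subtype.ext (mem_centralizer_singleton_iff.1 (T.symm.le x.2)).symm

omit [Finite G] in
theorem Two.fq_comm (T : Two p q H) (x : ↥H) : T.f T.qH * T.f x = T.f x * T.f T.qH := by
  rw [← map_mul, T.qH_comm, map_mul]

theorem Two.f_ker (T : Two p q H) : (Nat.card T.f.ker).Coprime 2 := by
  refine (qmk_ker p).coprime_dvd_left ?_
  rw [← card_map_of_injective (Subgroup.inclusion_injective T.le) (K := T.f.ker)]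
  refine card_dvd_of_le ?_
  rintro _ ⟨x, hx, rfl⟩
  exact hx

theorem Two.qpow_isPGroup (T : Two p q H) : IsPGroup 2 ↥(zpowers (T.f T.qH)) := by
  rintro ⟨x, hx⟩
  obtain ⟨i, rfl⟩ := mem_zpowers_iff.1 hx
  refine ⟨1, Subtype.ext ?_⟩
  rw [SubmonoidClass.coe_pow, pow_one]
  show (T.f T.qH ^ i) ^ 2 = 1
  rw [← zpow_natCast, ← zpow_mul, mul_comm, zpow_mul, zpow_natCast, pow_two, ← map_mul, T.qH_sq,
    map_one, one_zpow]

theorem Two.range_eq (T : Two p q H) :
    T.f.range = centralizer (zpowers (T.f T.qH) : Set (QQ p)) := by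
  have : Fact (Nat.Prime 2) := ⟨Nat.prime_two⟩
  refine le_antisymm ?_ ?_
  · rintro _ ⟨x, rfl⟩
    rw [zpowers_eq_closure, centralizer_closure, mem_centralizer_singleton_iff]
    exact (T.fq_comm x).symm
  · set q' : ↥(C1 p) := ⟨q, T.le T.mem_right⟩ with hq'
    have hp' : IsPGroup 2 ↥(zpowers q') := by
      rintro ⟨x, hx⟩
      obtain ⟨i, rfl⟩ := mem_zpowers_iff.1 hx
      refine ⟨1, Subtype.ext ?_⟩
      rw [SubmonoidClass.coe_pow, pow_one]
      show (q' ^ i) ^ 2 = 1
      rw [← zpow_natCast, ← zpow_mul, mul_comm, zpow_mul, zpow_natCast,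
        show q' ^ 2 = 1 from Subtype.ext (by simpa [pow_two] using T.sqq), one_zpow]
    have h := Layer.map_centralizer_of_coprime (QuotientGroup.mk'_surjective _) (qmk_ker p) hp'
    rw [MonoidHom.map_zpowers] at h
    rw [show T.f T.qH = qmk p q' from rfl, ← h]
    rintro _ ⟨x, hx, rfl⟩
    rw [SetLike.mem_coe, zpowers_eq_closure, centralizer_closure, mem_centralizer_singleton_iff] at hx
    exact ⟨⟨x, T.mem_of x.2 (congrArg Subtype.val hx)⟩, rfl⟩

/-- Elements commuting with the class of `q` lift. -/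
theorem Two.exists_pre (T : Two p q H) {w : QQ p} (h : w * T.f T.qH = T.f T.qH * w) :
    ∃ x, T.f x = w := by
  have hw : w ∈ T.f.range := by
    rw [T.range_eq, zpowers_eq_closure, centralizer_closure, mem_centralizer_singleton_iff]
    exact h
  exact hw

/-- Two-elements lift to two-elements. -/
theorem Two.exists_pre_two (T : Two p q H) {w : QQ p} (h : w * T.f T.qH = T.f T.qH * w) {k : ℕ}
    (hk : w ^ 2 ^ k = 1) : ∃ x, T.f x = w ∧ ∃ l, x ^ 2 ^ l = 1 := by
  obtain ⟨x, rfl⟩ := T.exists_pre h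
  obtain ⟨n, hl, hn⟩ := exists_twoPart x
  exact ⟨x ^ n, hn T.f k hk, hl⟩

/-- The core of `C(q)` lands in the core of the centraliser of the class of `q`. -/
theorem Two.ker_mem_cCore (T : Two p q H) {x : ↥H} (hx : T.symm.f x = 1) :
    T.f x ∈ Layer.cCore 2 (zpowers (T.f T.qH)) := by
  have : Fact (Nat.Prime 2) := ⟨Nat.prime_two⟩
  have hxq : (x : G) ∈ centralizerPPrimeCore 2 q :=
    (Layer.mk_eq_one_iff_mem_centralizerPPrimeCore (T.symm.le x.2)).1 hx
  exact Layer.mk_mem_cCore (T.le T.mem_right) (by rw [pow_two, T.sqq]) (T.le x.2) hxq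

theorem Two.ker_normalizes (T : Two p q H) {x : ↥H} (hx : T.symm.f x = 1) {N : Subgroup (QQ p)}
    (hN : IsComponent N) : T.f x ∈ normalizer (N : Set (QQ p)) := by
  have : Fact (Nat.Prime 2) := ⟨Nat.prime_two⟩
  exact Layer.cCore_le_normalizer_component (oddCore_QQ p) T.qpow_isPGroup hN (T.ker_mem_cCore hx)

/-- A 2-component group of the centraliser of the class of `p` lifts to `H` and maps into the
layer on the other side. -/
theorem Two.exists_lift_layer (T : Two p q H) {K : Subgroup (QQ q)}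
    (hKc : K ≤ centralizer (zpowers (T.symm.f T.pH) : Set (QQ q)))
    (hKsn : (K.subgroupOf (centralizer (zpowers (T.symm.f T.pH) : Set (QQ q)))).IsSubnormal)
    (hK : Layer.IsPCompGroup 2 ↥K) (hOK : oddCore ↥K = ⊥) :
    ∃ P : Subgroup ↥H, Layer.IsPCompGroup 2 ↥P ∧ P.map T.symm.f = K ∧
      (∀ x ∈ P, T.f x ∈ layer (QQ p)) ∧
      ∃ e : ↥P ⧸ oddCore ↥P ≃* ↥K,
        ∀ x : ↥P, ((e (QuotientGroup.mk' (oddCore ↥P) x)) : QQ q) = T.symm.f x := by
  have : Fact (Nat.Prime 2) := ⟨Nat.prime_two⟩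
  have hr : T.symm.f.range = centralizer (zpowers (T.symm.f T.pH) : Set (QQ q)) := T.symm.range_eq
  have hle : K ≤ T.symm.f.range := hKc.trans hr.ge
  obtain ⟨P, hPsn, hP, hPm, e, he⟩ := exists_lift T.symm.f T.symm.f_ker hle
    (by rw [hr]; exact hKsn) hK hOK
  refine ⟨P, hP, hPm, ?_, e, he⟩
  intro x hx
  by_cases hb : P.map T.f = ⊥
  · have h1 : T.f x ∈ P.map T.f := ⟨x, hx, rfl⟩
    rw [hb, Subgroup.mem_bot] at h1
    rw [h1]
    exact one_mem _
  · refine Layer.jcomp_le_layer (oddCore_QQ p) T.qpow_isPGroup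
      ((map_mono le_top).trans ((MonoidHom.range_eq_map T.f).ge.trans T.range_eq.le)) ?_
      (Layer.isPCompGroup_map T.f hP hb) ⟨x, hx, rfl⟩
    rw [← T.range_eq]
    have h := hPsn.map T.f.rangeRestrict_surjective
    convert h using 1
    ext y
    constructor
    · rintro ⟨u, hu, hue⟩
      exact ⟨u, hu, Subtype.ext hue⟩
    · rintro ⟨u, hu, rfl⟩
      exact ⟨u, hu, rfl⟩

theorem card_quot_center_congr {A B : Type*} [Group A] [Group B] (e : A ≃* B) :
    Nat.card (A ⧸ center A) = Nat.card (B ⧸ center B) := by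
  rw [← index_eq_card, ← index_eq_card]
  have h : (center B).comap e.toMonoidHom = center A := by
    ext x
    rw [Subgroup.mem_comap, Subgroup.mem_center_iff, Subgroup.mem_center_iff]
    constructor
    · intro hx y
      exact e.injective (by rw [map_mul, map_mul]; exact hx (e y))
    · intro hx y
      obtain ⟨y, rfl⟩ := e.surjective y
      show e y * e x = e x * e y
      rw [← map_mul, hx, map_mul]
  rw [← h, index_comap_of_surjective _ e.surjective]

theorem component_subnormal_in {Q : Type u} [Group Q] {K S : Subgroup Q} (hK : IsComponent K) :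
    (K.subgroupOf S).IsSubnormal := hK.1.comap _

/-- A component of `C(q) / O(C(q))` centralised by `p` lifts into the layer on the other side;
all its preimages normalise the components there. -/
theorem Two.pre_normalizes (T : Two p q H) {K : Subgroup (QQ q)} (hK : IsComponent K)
    (hKp : T.symm.f T.pH ∈ centralizer (K : Set (QQ q))) {x : ↥H} (hx : T.symm.f x ∈ K)
    {N : Subgroup (QQ p)} (hN : IsComponent N) : T.f x ∈ normalizer (N : Set (QQ p)) := by
  have hKc : K ≤ centralizer (zpowers (T.symm.f T.pH) : Set (QQ q)) := by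
    rw [le_centralizer_iff, zpowers_le]
    exact hKp
  obtain ⟨P, -, hPm, hPl, -⟩ := T.exists_lift_layer hKc (component_subnormal_in hK)
    (component_pComp (oddCore_QQ q) hK) (oddCore_component (oddCore_QQ q) hK)
  rw [← hPm] at hx
  obtain ⟨π, hπ, hπe⟩ := hx
  have h1 : T.f (π⁻¹ * x) ∈ normalizer (N : Set (QQ p)) := T.ker_normalizes
    (by rw [map_mul, map_inv, hπe, inv_mul_cancel]) hN
  have h2 := mul_mem (Layer.layer_le_normalizer_component hN (hPl π hπ)) h1
  rwa [← map_mul, mul_inv_cancel_left] at h2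

/-- If `p` centralises a component containing `q` then `q` centralises every component of the same
size on the other side. -/
theorem Two.star (T : Two p q H) {K : Subgroup (QQ q)} (hK : IsComponent K) (hqK : bar q ∈ K)
    (hKp : T.symm.f T.pH ∈ centralizer (K : Set (QQ q))) {L : Subgroup (QQ p)} (hL : IsComponent L)
    (hcard : Nat.card (↥L ⧸ center ↥L) = Nat.card (↥K ⧸ center ↥K)) :
    T.f T.qH ∈ centralizer (L : Set (QQ p)) := by
  have hKc : K ≤ centralizer (zpowers (T.symm.f T.pH) : Set (QQ q)) := by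
    rw [le_centralizer_iff, zpowers_le]
    exact hKp
  obtain ⟨P, hP, hPm, hPl, e, he⟩ := T.exists_lift_layer hKc (component_subnormal_in hK)
    (component_pComp (oddCore_QQ q) hK) (oddCore_component (oddCore_QQ q) hK)
  rw [← hPm] at hqK
  obtain ⟨π, hπ, hπe⟩ := hqK
  obtain ⟨n, ⟨k, hk⟩, hn⟩ := exists_twoPart π
  have hq2 : T.symm.f T.qH ^ 2 ^ 1 = 1 := by
    rw [pow_one, pow_two, ← map_mul, T.qH_sq, map_one]
  have hπ' : T.symm.f π = T.symm.f T.qH := hπe
  have hn' : T.symm.f (π ^ n) = T.symm.f T.qH := by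
    rw [hn T.symm.f 1 (hπ' ▸ hq2), hπ']
  have hqP : T.qH ∈ P := by
    have h1 : T.qH * π ^ n = 1 := by
      refine eq_one_of_killed T.symm.f T.symm.f_ker (k := k + 1) ?_ ?_
      · rw [(show Commute T.qH (π ^ n) from T.qH_comm _).mul_pow, pow_succ, pow_mul, pow_mul, hk,
          one_pow, mul_one, ← pow_mul, ← pow_succ, pow_succ', pow_mul, pow_two, T.qH_sq, one_pow]
      · rw [map_mul, hn', ← map_mul, T.qH_sq, map_one]
    rw [eq_inv_of_mul_eq_one_left h1]
    exact inv_mem (pow_mem hπ n)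
  have hc : Nat.card (↥L ⧸ center ↥L) =
      Nat.card ((↥P ⧸ oddCore ↥P) ⧸ center (↥P ⧸ oddCore ↥P)) := by
    rw [hcard, card_quot_center_congr e]
  rcases layer_proj hP (T.f.comp P.subtype) (fun x => hPl x x.2) hL hc with h | ⟨-, h⟩
  · exact h ⟨T.qH, hqP⟩
  · refine h ⟨T.qH, hqP⟩ (Subgroup.mem_center_iff.2 fun y => ?_)
    obtain ⟨y, rfl⟩ := QuotientGroup.mk'_surjective _ y
    rw [← map_mul, ← map_mul]
    exact congrArg _ (Subtype.ext (T.qH_comm y).symm)

/-! ### 2-components with a single involution -/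

/-- `z` is the involution of the 2-component `J` of its centraliser. -/
structure Data (z : G) (J : Subgroup G) (m : ℕ) : Prop where
  sq : z * z = 1
  ne : z ≠ 1
  mem : z ∈ J
  uniq : ∀ t ∈ J, t * t = 1 → t = 1 ∨ t = z
  le : J ≤ C1 z
  comp : IsPComponent 2 (J.subgroupOf (C1 z))
  center : Nat.card (Subgroup.center ↥(img z J)) = 2
  size : Nat.card (↥(img z J) ⧸ Subgroup.center ↥(img z J)) = m

variable {z : G} {J : Subgroup G} {m : ℕ}

theorem Data.bar_mem (D : Data z J m) : bar z ∈ img z J :=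
  ⟨⟨z, self_mem z⟩, D.mem, rfl⟩

theorem Data.tight (D : Data z J m) : Tight (img z J) (bar z) := by
  have : Fact (Nat.Prime 2) := ⟨Nat.prime_two⟩
  have hz2 : bar z * bar z = 1 := by
    rw [← map_mul, show (⟨z, self_mem z⟩ : ↥(C1 z)) * ⟨z, self_mem z⟩ = 1 from Subtype.ext D.sq,
      map_one]
  have huniq : ∀ x ∈ img z J, x * x = 1 → x = 1 ∨ x = bar z := by
    rintro _ ⟨x, hx, rfl⟩ h2
    obtain ⟨n, ⟨k, hk⟩, hn⟩ := exists_twoPart x
    have hn' : qmk z (x ^ n) = qmk z x := hn (qmk z) 1 (by rw [pow_one, pow_two, h2])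
    have hsq : (x ^ n) * (x ^ n) = 1 := by
      refine eq_one_of_killed (qmk z) (qmk_ker z) (k := k) ?_ ?_
      · rw [← pow_two, ← pow_mul (x ^ n), mul_comm, pow_mul, hk, one_pow]
      · rw [map_mul, hn', h2]
    rcases D.uniq _ (pow_mem hx n : (x ^ n : ↥(C1 z)) ∈ J.subgroupOf (C1 z))
        (congrArg Subtype.val hsq) with h | h
    · left
      rw [← hn', show x ^ n = 1 from Subtype.ext h, map_one]
    · right
      rw [← hn', show x ^ n = ⟨z, self_mem z⟩ from Subtype.ext h]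
  refine ⟨D.comp.2.1, D.bar_mem, qmk_ne_one _ D.sq D.ne, hz2, bar_central z, huniq, ?_⟩
  intro x hx hc
  have hxc : (⟨x, hx⟩ : ↥(img z J)) ∈ Subgroup.center ↥(img z J) :=
    Subgroup.mem_center_iff.2 fun y => Subtype.ext (mem_centralizer_iff.1 hc y y.2)
  have hz1 : (⟨bar z, D.bar_mem⟩ : ↥(img z J)) ∈ Subgroup.center ↥(img z J) :=
    Subgroup.mem_center_iff.2 fun y => Subtype.ext (bar_central z y).symm
  refine huniq x hx ?_
  have h := pow_card_eq_one' (x := (⟨_, hxc⟩ : ↥(Subgroup.center ↥(img z J))))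
  rw [D.center, pow_two] at h
  exact congrArg Subtype.val (congrArg Subtype.val h)

theorem Data.normalizer_iff (D : Data z J m) (x : ↥(C1 z)) :
    qmk z x ∈ normalizer (img z J : Set (QQ z)) ↔ (x : G) ∈ normalizer (J : Set G) := by
  have : Fact (Nat.Prime 2) := ⟨Nat.prime_two⟩
  constructor
  · intro h
    have h1 : x ∈ normalizer ((J.subgroupOf (C1 z) : Subgroup ↥(C1 z)) : Set ↥(C1 z)) := by
      rw [← Layer.eq_pComponentOver D.comp]
      exact Layer.normalizer_le_normalizer_pElemClosure _ (le_normalizer_comap _ h)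
    have h2 := le_normalizer_map (C1 z).subtype (mem_map_of_mem (C1 z).subtype h1)
    rwa [map_subgroupOf_eq_of_le D.le] at h2
  · intro h
    refine le_normalizer_map (qmk z) ⟨x, ?_, rfl⟩
    rw [SetLike.mem_coe, Subgroup.mem_normalizer_iff]
    intro y
    exact Subgroup.mem_normalizer_iff.1 h (y : G)

theorem conj_mem_C1 (e : G) {z z' : G} (h : e * z * e⁻¹ = z') {x : G} (hx : x ∈ C1 z) :
    e * x * e⁻¹ ∈ C1 z' := by
  rw [mem_centralizer_singleton_iff, ← h,
    show e * x * e⁻¹ * (e * z * e⁻¹) = e * (x * z) * e⁻¹ by group,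
    mem_centralizer_singleton_iff.1 hx]
  group

/-- Conjugation as an isomorphism of centralisers. -/
noncomputable def centEquiv (e : G) {z z' : G} (h : e * z * e⁻¹ = z') : ↥(C1 z) ≃* ↥(C1 z') where
  toFun x := ⟨e * x * e⁻¹, conj_mem_C1 e h x.2⟩
  invFun x := ⟨e⁻¹ * x * e, by
    have h' : e⁻¹ * z' * e⁻¹⁻¹ = z := by rw [← h]; group
    simpa using conj_mem_C1 e⁻¹ h' x.2⟩
  left_inv x := Subtype.ext (by simp [mul_assoc])
  right_inv x := Subtype.ext (by simp [mul_assoc])
  map_mul' x y := Subtype.ext (by simp [mul_assoc])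

theorem centEquiv_apply (e : G) {z z' : G} (h : e * z * e⁻¹ = z') (x : ↥(C1 z)) :
    (centEquiv e h x : G) = e * x * e⁻¹ := rfl

/-- Conjugation as an isomorphism of the quotients. -/
noncomputable def qEquiv (e : G) {z z' : G} (h : e * z * e⁻¹ = z') : QQ z ≃* QQ z' :=
  QuotientGroup.congr _ _ (centEquiv e h) (Core.map_pPrimeCore (centEquiv e h))

theorem qEquiv_mk (e : G) {z z' : G} (h : e * z * e⁻¹ = z') (x : ↥(C1 z)) :
    qEquiv e h (qmk z x) = qmk z' (centEquiv e h x) := rfl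

theorem Data.img_conj (D : Data z J m) (e : G) {z' : G} (h : e * z * e⁻¹ = z') :
    img z' (J.map (MulAut.conj e).toMonoidHom) = (img z J).map (qEquiv e h).toMonoidHom := by
  ext y
  constructor
  · rintro ⟨x, ⟨j, hj, hjx⟩, rfl⟩
    refine ⟨qmk z ⟨j, D.le hj⟩, ⟨⟨j, D.le hj⟩, hj, rfl⟩, ?_⟩
    exact congrArg (qmk z') (Subtype.ext hjx)
  · rintro ⟨_, ⟨x, hx, rfl⟩, rfl⟩
    exact ⟨centEquiv e h x, ⟨x, hx, rfl⟩, rfl⟩

theorem Data.conj (D : Data z J m) (e : G) {z' : G} (h : e * z * e⁻¹ = z') :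
    Data z' (J.map (MulAut.conj e).toMonoidHom) m := by
  have : Fact (Nat.Prime 2) := ⟨Nat.prime_two⟩
  have hle : J.map (MulAut.conj e).toMonoidHom ≤ C1 z' := by
    rintro _ ⟨j, hj, rfl⟩
    exact (centEquiv e h ⟨j, D.le hj⟩).2
  have heq : img z' (J.map (MulAut.conj e).toMonoidHom) = (img z J).map (qEquiv e h).toMonoidHom :=
    D.img_conj e h
  let E : ↥(img z J) ≃* ↥(img z' (J.map (MulAut.conj e).toMonoidHom)) :=
    ((img z J).equivMapOfInjective _ (qEquiv e h).injective).trans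
      (MulEquiv.subgroupCongr heq.symm)
  have hc : Nat.card (Subgroup.center ↥(img z J)) =
      Nat.card (Subgroup.center ↥(img z' (J.map (MulAut.conj e).toMonoidHom))) :=
    Nat.card_congr (Subgroup.centerCongr E).toEquiv
  refine ⟨?_, ?_, ⟨z, D.mem, h⟩, ?_, hle, ?_, hc.symm.trans D.center,
    (card_quot_center_congr E).symm.trans D.size⟩
  · rw [← h, show e * z * e⁻¹ * (e * z * e⁻¹) = e * (z * z) * e⁻¹ by group, D.sq, mul_one,
      mul_inv_cancel]
  · rw [← h]
    intro h1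
    exact D.ne (conj_eq_one_iff.1 h1)
  · rintro _ ⟨t, ht, rfl⟩ h2
    have h2' : t * t = 1 := by
      apply (MulAut.conj e).injective
      rw [map_mul, map_one]
      exact h2
    rcases D.uniq t ht h2' with rfl | rfl
    · exact Or.inl (map_one _)
    · exact Or.inr h
  · rw [Layer.isPComponent_subgroupOf_iff hle]
    obtain ⟨hsn, hP⟩ := (Layer.isPComponent_subgroupOf_iff D.le).1 D.comp
    refine ⟨?_, Layer.isPCompGroup_congr
      (J.equivMapOfInjective _ (MulAut.conj e).injective) hP⟩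
    have h' := hsn.map (f := (centEquiv e h).toMonoidHom) (centEquiv e h).surjective
    convert h' using 1
    ext y
    constructor
    · rintro ⟨j, hj, hjy⟩
      exact ⟨⟨j, D.le hj⟩, hj, Subtype.ext hjy⟩
    · rintro ⟨x, hx, rfl⟩
      exact ⟨x, hx, rfl⟩

theorem Data.component (D : Data z J m) : IsComponent (img z J) := D.comp.2.1

end Cfsg.Agent.ClassicalInv
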