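import Cfsg.Agent.ClassicalInv.Main

/-!
A 2-element of order at least four of `C_K(zJ)` normalises `J`.
-/

set_option autoImplicit false

namespace Cfsg.Agent.ClassicalInv

open Subgroup Cfsg
open scoped commutatorElement

universe u

section

variable {Q : Type u} [Group Q] [Finite Q] {L : Subgroup Q} {z : Q}

theorem moved_commute (hL : IsComponent L) {s : Q} (hn : s ∉ normalizer (L : Set Q)) {a b : Q}
    (ha : a ∈ L) (hb : b ∈ L) : Commute a (s * b * s⁻¹) :=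
  Layer.commute_of_commutator_eq_bot (Layer.components_commute hL (Layer.isComponent_map_conj hL s)
    (fun h => hn (mem_normalizer_iff_map_conj_eq.2 h.symm))) ha ⟨b, hb, rfl⟩

/-- A tight component meets its conjugates in the centre. -/
theorem Tight.eq_of_moved (hL : Tight L z) {s : Q} (hn : s ∉ normalizer (L : Set Q)) {a b : Q}
    (ha : a ∈ L) (hb : b ∈ L) (h : a = s * b * s⁻¹) : a = 1 ∨ a = z :=
  hL.cent a ha (mem_centralizer_iff.2 fun y hy => by rw [h]; exact (moved_commute hL.comp hn hy hb).eq)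

omit [Finite Q] in
theorem Tight.sq_of_eq (hL : Tight L z) {a : Q} (h : a = 1 ∨ a = z) : a * a = 1 := by
  rcases h with rfl | rfl
  · exact one_mul 1
  · exact hL.sq

omit [Finite Q] in
theorem Tight.central_of_eq (hL : Tight L z) {a : Q} (h : a = 1 ∨ a = z) (q : Q) :
    a * q = q * a := by
  rcases h with rfl | rfl
  · rw [one_mul, mul_one]
  · exact hL.central q

/-- `b * b^σ` is fixed by `φ` if `φ` inverts `b` modulo `z` and commutes with `σ`. -/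
theorem pair_comm {φ σ b z : Q} (hz : z * z = 1) (hzc : ∀ q, z * q = q * z) (hφ : φ * φ = 1)
    (hσφ : φ * σ = σ * φ) (hb : φ * b * φ = b * z) :
    b * (σ * b * σ⁻¹) * φ = φ * (b * (σ * b * σ⁻¹)) := by
  have hσφ' : σ⁻¹ * φ = φ * σ⁻¹ := by
    rw [inv_mul_eq_iff_eq_mul, ← mul_assoc, ← hσφ, mul_inv_cancel_right]
  calc b * (σ * b * σ⁻¹) * φ = (φ * φ) * b * (φ * φ) * σ * b * (σ⁻¹ * φ) := by
        rw [hφ, one_mul, mul_one]; group
    _ = φ * (φ * b * φ) * (φ * σ) * b * φ * σ⁻¹ := by rw [hσφ']; group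
    _ = φ * (b * z) * σ * (φ * b * φ) * σ⁻¹ := by conv_lhs => rw [hb, hσφ]
                                                  group
    _ = φ * (b * (z * (σ * b) * z) * σ⁻¹) := by rw [hb]; group
    _ = φ * (b * (σ * b * (z * z)) * σ⁻¹) := by rw [hzc (σ * b), mul_assoc (σ * b)]
    _ = _ := by rw [hz]; group

end

variable {G : Type u} [Group G] [Finite G] {zJ zK : G} {J K H : Subgroup G} {m : ℕ}

/-- A preimage of `b * b^σ * ζ` moves the component on the other side. -/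
theorem Two.moves (T : Two zJ zK H) (DJ : Data zJ J m) (DK : Data zK K m) {y : ↥H} {n : ℕ}
    (hy : T.symm.f y ∈ img zK K) (hn : y ^ (2 * n) = T.qH)
    (hγc : T.symm.f T.pH ∉ centralizer (img zK K : Set (QQ zK)))
    (hσ : T.f y ∉ normalizer (img zJ J : Set (QQ zJ)))
    (hσ2 : T.f y * T.f y ∈ normalizer (img zJ J : Set (QQ zJ)))
    {j : QQ zJ} (hj : j ∈ img zJ J) (hjt : T.f T.qH * j * T.f T.qH = j * bar zJ)
    {h : ↥H} {ζ : QQ zJ} (hζ : ∀ q, ζ * q = q * ζ)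
    (hh : T.f h = j * (T.f y * j * (T.f y)⁻¹) * ζ) :
    T.symm.f h ∉ normalizer (img zK K : Set (QQ zK)) := by
  intro hN
  obtain ⟨σ, hσdef⟩ : ∃ σ, σ = T.f y := ⟨_, rfl⟩
  rw [← hσdef] at hσ hσ2 hh
  set S := ((img zK K).comap T.symm.f).map T.f with hS
  have hconj : ∀ s ∈ S, σ * s * σ⁻¹ ∈ S := by
    rintro _ ⟨u, hu, rfl⟩
    refine ⟨y * u * y⁻¹, ?_, by rw [map_mul, map_mul, map_inv, hσdef]⟩
    rw [SetLike.mem_coe, mem_comap, map_mul, map_mul, map_inv]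
    exact mul_mem (mul_mem hy hu) (inv_mem hy)
  have hc1 : σ * σ * j * (σ * σ)⁻¹ * j⁻¹ ∈ S := by
    refine ⟨y * h * y⁻¹ * h⁻¹, ?_, ?_⟩
    · rw [SetLike.mem_coe, mem_comap, map_mul, map_mul, map_mul, map_inv, map_inv]
      simp only [mul_assoc]
      refine mul_mem hy ?_
      rw [← mul_assoc]
      exact (mem_normalizer_iff.1 hN _).1 (inv_mem hy)
    · rw [map_mul, map_mul, map_mul, map_inv, map_inv, hh, ← hσdef]
      have h2 : σ * σ * j * (σ * σ)⁻¹ ∈ img zJ J := (mem_normalizer_iff.1 hσ2 j).1 hj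
      have hcm := moved_commute DJ.component hσ h2 hj
      calc σ * (j * (σ * j * σ⁻¹) * ζ) * σ⁻¹ * (j * (σ * j * σ⁻¹) * ζ)⁻¹
          = (σ * j * σ⁻¹) * (σ * σ * j * (σ * σ)⁻¹) * (σ * ζ * σ⁻¹ * ζ⁻¹) * (σ * j * σ⁻¹)⁻¹ * j⁻¹ := by
            group
        _ = _ := by rw [← hζ σ, mul_inv_cancel_right, mul_inv_cancel, mul_one, ← hcm.eq,
              mul_inv_cancel_right]
  have hall : ∀ i : ℕ, σ ^ (2 * i) * j * (σ ^ (2 * i))⁻¹ * j⁻¹ ∈ S := by
    intro i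
    induction i with
    | zero => simp
    | succ i ih =>
      rw [show σ ^ (2 * (i + 1)) = σ * σ * σ ^ (2 * i) by
        rw [show 2 * (i + 1) = 2 + 2 * i by omega, pow_add, pow_two]]
      have h := mul_mem (hconj _ (hconj _ ih)) hc1
      convert h using 1
      group
  have hz := hall n
  have hφ : σ ^ (2 * n) = T.f T.qH := by rw [hσdef, ← map_pow, hn]
  rw [hφ, show (T.f T.qH)⁻¹ = T.f T.qH from inv_eq_of_mul_eq_one_right (by
    rw [← map_mul, T.qH_sq, map_one]), hjt, ← bar_central, mul_inv_cancel_right] at hz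
  obtain ⟨u, hu, hfu⟩ := hz
  obtain ⟨n', ⟨k, hk⟩, hn'⟩ := exists_twoPart u
  have hz2 : bar zJ ^ 2 ^ 1 = 1 := by rw [pow_one, pow_two, DJ.tight.sq]
  have hp2 : T.pH * T.pH = 1 := T.symm.qH_sq
  have hup : T.pH = u ^ n' := by
    have h1 : T.pH * u ^ n' = 1 := by
      refine eq_one_of_killed T.f T.f_ker (k := k + 1) ?_ ?_
      · rw [(show Commute T.pH (u ^ n') from T.symm.qH_comm _).mul_pow, pow_succ, pow_mul, pow_mul,
          hk, one_pow, mul_one, ← pow_mul, ← pow_succ, pow_succ', pow_mul, pow_two, hp2, one_pow]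
      · rw [map_mul, hn' T.f 1 (hfu ▸ hz2), hfu, T.f_p, DJ.tight.sq]
    rw [eq_inv_of_mul_eq_one_right h1]
    exact (inv_eq_of_mul_eq_one_right hp2).symm
  have hγK : T.symm.f T.pH ∈ img zK K := by
    rw [hup, map_pow]
    exact pow_mem hu _
  refine hγc (mem_centralizer_iff.2 fun q _ => ?_)
  refine (DK.tight.central_of_eq (DK.tight.uniq _ hγK ?_) q).symm
  rw [← map_mul, hp2, map_one]

/-- The other involution is the product of an element of order four and a conjugate. -/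
theorem Two.decomp (T : Two zJ zK H) (DJ : Data zJ J m) (DK : Data zK K m) {y : ↥H} {n k : ℕ}
    (hy : T.symm.f y ∈ img zK K) (hn : y ^ (2 * n) = T.qH) (hk : y ^ 2 ^ k = 1) (hy2 : y * y ≠ 1)
    (hγc : T.symm.f T.pH ∉ centralizer (img zK K : Set (QQ zK)))
    (hσ : T.f y ∉ normalizer (img zJ J : Set (QQ zJ)))
    (hσ2 : T.f y * T.f y ∈ normalizer (img zJ J : Set (QQ zJ)))
    {j : QQ zJ} (hj : j ∈ img zJ J) (hjt : T.f T.qH * j * T.f T.qH = j * bar zJ)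
    {h : ↥H} {ζ : QQ zJ} (hζ : ∀ q, ζ * q = q * ζ)
    (hh : T.f h = j * (T.f y * j * (T.f y)⁻¹) * ζ) :
    T.symm.f T.pH = T.symm.f y * (T.symm.f h * (T.symm.f y)⁻¹ * (T.symm.f h)⁻¹) ∧
      y * y = T.qH := by
  have hN := T.moves DJ DK hy hn hγc hσ hσ2 hj hjt hζ hh
  have hsq : ∀ {x : QQ zK}, x = T.symm.f y → x * x ≠ 1 := by
    rintro x rfl h1
    rw [← map_mul] at h1
    refine hy2 (eq_one_of_killed T.symm.f T.symm.f_ker (k := k) ?_ h1)
    rw [← pow_two, ← pow_mul, mul_comm, pow_mul, hk, one_pow]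
  set x := y * h * y⁻¹ * h⁻¹ with hx
  obtain ⟨a1, ha1⟩ : ∃ a1, a1 = T.symm.f y := ⟨_, rfl⟩
  obtain ⟨e, he⟩ : ∃ e, e = T.symm.f h := ⟨_, rfl⟩
  rw [← ha1, ← he]
  rw [← ha1] at hy
  rw [← he] at hN
  have hgx : T.symm.f x = a1 * (e * a1⁻¹ * e⁻¹) := by
    rw [hx, map_mul, map_mul, map_mul, map_inv, map_inv, ← ha1, ← he]; group
  have hcm : Commute a1 (e * a1⁻¹ * e⁻¹) := moved_commute DK.component hN hy (inv_mem hy)
  have hak : a1 ^ 2 ^ k = 1 := by rw [ha1, ← map_pow, hk, map_one]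
  have hgxk : T.symm.f x ^ 2 ^ k = 1 := by
    rw [hgx, hcm.mul_pow, conj_pow, inv_pow, hak]; group
  obtain ⟨n', ⟨l, hl⟩, hn'⟩ := exists_twoPart x
  obtain ⟨u, hu⟩ : ∃ u, u = x ^ n' := ⟨_, rfl⟩
  have hgu : T.symm.f u = T.symm.f x := hu ▸ hn' T.symm.f k hgxk
  rw [← hu] at hl
  -- the image on the first side
  obtain ⟨σ, hσdef⟩ : ∃ σ, σ = T.f y := ⟨_, rfl⟩
  rw [← hσdef] at hσ hσ2 hh
  have h2 : σ * σ * j * (σ * σ)⁻¹ ∈ img zJ J := (mem_normalizer_iff.1 hσ2 j).1 hj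
  have hfx : T.f x = σ * σ * j * (σ * σ)⁻¹ * j⁻¹ := by
    rw [hx, map_mul, map_mul, map_mul, map_inv, map_inv, hh, ← hσdef]
    have hcm := moved_commute DJ.component hσ h2 hj
    calc σ * (j * (σ * j * σ⁻¹) * ζ) * σ⁻¹ * (j * (σ * j * σ⁻¹) * ζ)⁻¹
        = (σ * j * σ⁻¹) * (σ * σ * j * (σ * σ)⁻¹) * (σ * ζ * σ⁻¹ * ζ⁻¹) * (σ * j * σ⁻¹)⁻¹ * j⁻¹ := by
          group
      _ = _ := by rw [← hζ σ, mul_inv_cancel_right, mul_inv_cancel, mul_one, ← hcm.eq,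
            mul_inv_cancel_right]
  have hau : T.f u ∈ img zJ J := by
    rw [hu, map_pow, hfx]
    exact pow_mem (mul_mem h2 (inv_mem hj)) _
  -- it is fixed by `σ`
  have hfix : T.f u = σ * T.f u * σ⁻¹ := by
    set w := y * u * y⁻¹ * u⁻¹ with hw
    have hgw : T.symm.f w = 1 := by
      rw [hw, map_mul, map_mul, map_mul, map_inv, map_inv, hgu, hgx, ← ha1]
      have h3 : Commute a1 (a1 * (e * a1⁻¹ * e⁻¹)) := (Commute.refl a1).mul_right hcm
      rw [h3.eq, mul_inv_cancel_right, mul_inv_cancel]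
    have hfw : T.f w = σ * T.f u * σ⁻¹ * (T.f u)⁻¹ := by
      rw [hw, map_mul, map_mul, map_mul, map_inv, map_inv, ← hσdef]
    have hcm' : Commute (σ * T.f u * σ⁻¹) (T.f u)⁻¹ :=
      (moved_commute DJ.component hσ hau hau).symm.inv_right
    have hw1 : T.f w ^ 2 ^ l = 1 := by
      rw [hfw, hcm'.mul_pow, conj_pow, inv_pow, ← map_pow, hl, map_one]; group
    have h1 : T.f w = 1 := orderOf_eq_one_iff.1 (Nat.eq_one_of_dvd_coprimes
      (T.symm.f_ker.pow_right l)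
      ((orderOf_map_dvd T.f w).trans (T.symm.f.ker.orderOf_dvd_natCard (MonoidHom.mem_ker.2 hgw)))
      (orderOf_dvd_of_pow_eq_one hw1))
    rw [hfw, mul_inv_eq_one] at h1
    exact h1.symm
  have hp2 : T.pH * T.pH = 1 := T.symm.qH_sq
  rcases DJ.tight.eq_of_moved hσ hau hau hfix with hc | hc
  · exfalso
    have hu1 : u = 1 := eq_one_of_killed T.f T.f_ker hl hc
    rw [← hgu, hu1, map_one] at hgx
    have he' : a1 = e * a1 * e⁻¹ := (eq_inv_of_mul_eq_one_left hgx.symm).trans (by group)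
    exact hsq ha1 (DK.tight.sq_of_eq (DK.tight.eq_of_moved hN hy hy he'))
  · have hup : u = T.pH := by
      have h1 : T.pH * u = 1 := by
        refine eq_one_of_killed T.f T.f_ker (k := l + 1) ?_ ?_
        · rw [(show Commute T.pH u from T.symm.qH_comm _).mul_pow, pow_succ, pow_mul, pow_mul,
            hl, one_pow, mul_one, ← pow_mul, ← pow_succ, pow_succ', pow_mul, pow_two, hp2, one_pow]
        · rw [map_mul, hc, T.f_p, DJ.tight.sq]
      rw [eq_inv_of_mul_eq_one_right h1]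
      exact inv_eq_of_mul_eq_one_right hp2
    have hγ : T.symm.f T.pH = a1 * (e * a1⁻¹ * e⁻¹) := by rw [← hup, hgu, hgx]
    refine ⟨hγ, ?_⟩
    have h1 : a1 * a1 = e * (a1 * a1) * e⁻¹ := by
      have h4 : a1 * (e * a1⁻¹ * e⁻¹) * (a1 * (e * a1⁻¹ * e⁻¹)) = 1 := by
        rw [← hγ, ← map_mul, hp2, map_one]
      rw [hcm.symm.mul_mul_mul_comm, show e * a1⁻¹ * e⁻¹ * (e * a1⁻¹ * e⁻¹) = (e * (a1 * a1) * e⁻¹)⁻¹ by
        group] at h4
      exact mul_inv_eq_one.1 h4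
    have h2 := (DK.tight.eq_of_moved hN (mul_mem hy hy) (mul_mem hy hy) h1).resolve_left (hsq ha1)
    have h3 : T.qH * (y * y) = 1 := by
      refine eq_one_of_killed T.symm.f T.symm.f_ker (k := k + 1) ?_ ?_
      · rw [(show Commute T.qH (y * y) from T.qH_comm _).mul_pow, ← pow_two y, ← pow_mul, ← pow_succ',
          pow_succ (2 : ℕ) (k + 1), pow_mul y, pow_succ' (2 : ℕ) k, pow_mul T.qH, pow_two T.qH,
          T.qH_sq, one_pow, one_mul, mul_comm 2, pow_mul y, hk, one_pow, one_pow]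
      · rw [map_mul, map_mul, ← ha1, h2]
        exact DK.tight.sq
    rw [eq_inv_of_mul_eq_one_right h3]
    exact inv_eq_of_mul_eq_one_right T.qH_sq

/-- An element of order at least four of `C_K(zJ)` forces `zJ` to normalise `K`. -/
theorem zJ_normalizes (DJ : Data zJ J m) (DK : Data zK K m) (hcomm : zJ * zK = zK * zJ) {y : G}
    (hyK : y ∈ K) {k : ℕ} (hk : y ^ 2 ^ k = 1) (hy2 : y * y ≠ 1) (hy : y * zJ = zJ * y) :
    zJ ∈ normalizer (K : Set G) := by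
  have T : Two zJ zK (C1 zJ ⊓ C1 zK) := ⟨DJ.sq, DK.sq, hcomm, rfl⟩
  refine (DK.normalizer_iff ⟨zJ, T.symm.le T.mem_left⟩).1 ?_
  by_contra h
  obtain ⟨Y, hY⟩ : ∃ Y : ↥(C1 zK), Y = ⟨y, DK.le hyK⟩ := ⟨_, rfl⟩
  have hkK : qmk zK Y ∈ img zK K := hY ▸ ⟨⟨y, DK.le hyK⟩, hyK, rfl⟩
  have hc : qmk zK Y = qmk zK ⟨zJ, T.symm.le T.mem_left⟩ * qmk zK Y *
      (qmk zK ⟨zJ, T.symm.le T.mem_left⟩)⁻¹ := by
    rw [← map_mul, ← map_inv, ← map_mul]
    refine congrArg _ (Subtype.ext ?_)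
    rw [hY]
    exact (by rw [← hy, mul_inv_cancel_right] : y = zJ * y * zJ⁻¹)
  have h1 := DK.tight.sq_of_eq (DK.tight.eq_of_moved h hkK hkK hc)
  rw [← map_mul] at h1
  have h2 : Y * Y = 1 := by
    refine eq_one_of_killed (qmk zK) (qmk_ker zK) (k := k) ?_ h1
    refine Subtype.ext ?_
    rw [SubmonoidClass.coe_pow, hY]
    show (y * y) ^ 2 ^ k = 1
    rw [← pow_two, ← pow_mul, mul_comm, pow_mul, hk, one_pow]
  rw [hY] at h2
  exact hy2 (congrArg Subtype.val h2)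

/-- The inductive step. -/
theorem elem_step (DJ : Data zJ J m) (DK : Data zK K m) {y : G} (hyK : y ∈ K) {k n : ℕ}
    (hk : y ^ 2 ^ k = 1) (hy2 : y * y ≠ 1) (hn : y ^ (2 * n) = zK) (hy : y * zJ = zJ * y)
    (hN2 : y * y ∈ normalizer (J : Set G)) : y ∈ normalizer (J : Set G) := by
  classical
  have hcomm : zJ * zK = zK * zJ := by
    rw [← hn]
    exact ((show Commute y zJ from hy).pow_left (2 * n)).symm.eq
  set H := C1 zJ ⊓ C1 zK with hH
  have T : Two zJ zK H := ⟨DJ.sq, DK.sq, hcomm, rfl⟩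
  have hyH : y ∈ H := T.mem_of (mem_centralizer_singleton_iff.2 hy)
    (mem_centralizer_singleton_iff.1 (DK.le hyK))
  obtain ⟨Y, hY⟩ : ∃ Y : ↥H, Y = ⟨y, hyH⟩ := ⟨_, rfl⟩
  have hYG : (Y : G) = y := by rw [hY]
  have hkK : T.symm.f Y ∈ img zK K := ⟨⟨y, DK.le hyK⟩, hyK, by rw [hY]; rfl⟩
  have hYn : Y ^ (2 * n) = T.qH := Subtype.ext (by rw [SubmonoidClass.coe_pow, hYG, hn]; rfl)
  have hYk : Y ^ 2 ^ k = 1 := Subtype.ext (by rw [SubmonoidClass.coe_pow, hYG, hk]; rfl)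
  have hY2 : Y * Y ≠ 1 := fun h => hy2 (by rw [← hYG]; exact congrArg Subtype.val h)
  have hkk : T.symm.f Y * T.symm.f Y ≠ 1 := fun h => by
    rw [← map_mul] at h
    refine hY2 (eq_one_of_killed T.symm.f T.symm.f_ker (k := k) ?_ h)
    rw [← pow_two, ← pow_mul, mul_comm, pow_mul, hYk, one_pow]
  have hN := zJ_normalizes DJ DK hcomm hyK hk hy2 hy
  have hγn : T.symm.f T.pH ∈ normalizer (img zK K : Set (QQ zK)) :=
    (DK.normalizer_iff ⟨zJ, T.symm.le T.mem_left⟩).2 hN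
  have hJn : T.f T.qH ∈ normalizer (img zJ J : Set (QQ zJ)) :=
    (DJ.normalizer_iff ⟨zK, T.le T.mem_right⟩).2 (swap_norm DJ DK hN)
  by_contra hcon
  obtain ⟨σ, hσdef⟩ : ∃ σ, σ = T.f Y := ⟨_, rfl⟩
  have hσ : T.f Y ∉ normalizer (img zJ J : Set (QQ zJ)) := fun h =>
    hcon (hYG ▸ (DJ.normalizer_iff ⟨Y, T.le Y.2⟩).1 h)
  have hσ2 : T.f Y * T.f Y ∈ normalizer (img zJ J : Set (QQ zJ)) := by
    rw [← map_mul]
    exact (DJ.normalizer_iff ⟨_, T.le (Y * Y).2⟩).2 (by rw [← hYG] at hN2; exact hN2)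
  have hγc : T.symm.f T.pH ∉ centralizer (img zK K : Set (QQ zK)) := fun h =>
    hσ (T.pre_normalizes DK.component h hkK DJ.component)
  have hφc : T.f T.qH ∉ centralizer (img zJ J : Set (QQ zJ)) := fun h =>
    hγc (T.symm.star DJ.component DJ.bar_mem h DK.component (DK.size.trans DJ.size.symm))
  obtain ⟨φ, hφdef⟩ : ∃ φ, φ = T.f T.qH := ⟨_, rfl⟩
  obtain ⟨γ, hγdef⟩ : ∃ γ, γ = T.symm.f T.pH := ⟨_, rfl⟩
  have hφ2 : φ * φ = 1 := by rw [hφdef, ← map_mul, T.qH_sq, map_one]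
  have hγ2 : γ * γ = 1 := by
    rw [hγdef, ← map_mul, show T.pH * T.pH = 1 from T.symm.qH_sq, map_one]
  have hσφ : φ * σ = σ * φ := by rw [hφdef, hσdef, T.fq_comm]
  obtain ⟨j, hj, hjt⟩ := DJ.tight.exists_twist (oddCore_QQ zJ) hφ2 (hφdef ▸ hJn) (hφdef ▸ hφc)
  obtain ⟨kb, hkb, hkt⟩ := DK.tight.exists_twist (oddCore_QQ zK) hγ2 (hγdef ▸ hγn) (hγdef ▸ hγc)
  have hone : ∀ q : QQ zJ, 1 * q = q * 1 := fun q => by rw [one_mul, mul_one]
  -- a first decomposition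
  obtain ⟨h, hh⟩ := T.exists_pre (w := j * (σ * j * σ⁻¹) * 1) (by
    rw [mul_one, ← hφdef]
    exact pair_comm DJ.tight.sq DJ.tight.central hφ2 hσφ hjt)
  rw [hσdef] at hh
  obtain ⟨hdec, hyy⟩ := T.decomp DJ DK hkK hYn hYk hY2 hγc hσ hσ2 hj (hφdef ▸ hjt) hone hh
  have hKh := T.moves DJ DK hkK hYn hγc hσ hσ2 hj (hφdef ▸ hjt) hone hh
  -- transport
  obtain ⟨c, -, hc1, hc2⟩ := T.exists_swap (j := j) (hφdef ▸ hjt)
  obtain ⟨ck, -, hk1, hk2⟩ := T.symm.exists_swap (j := kb) (hγdef ▸ hkt)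
  have hcz : (c : G) * zJ * (c : G)⁻¹ = zJ := by
    rw [mem_centralizer_singleton_iff.1 c.2, mul_inv_cancel_right]
  obtain ⟨s, hsdef⟩ : ∃ s, s = (c : G) * ck * c := ⟨_, rfl⟩
  have hs1 : s * zJ * s⁻¹ = zK := by
    rw [hsdef, show (c : G) * ck * c * zJ * ((c : G) * ck * c)⁻¹ =
      c * (ck * ((c : G) * zJ * (c : G)⁻¹) * (ck : G)⁻¹) * (c : G)⁻¹ by group, hcz, hk1, ← hcomm,
      hc2]
  have hs2 : s * zK * s⁻¹ = zJ := by
    rw [hsdef, show (c : G) * ck * c * zK * ((c : G) * ck * c)⁻¹ =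
      c * (ck * ((c : G) * zK * (c : G)⁻¹) * (ck : G)⁻¹) * (c : G)⁻¹ by group, hc1, hcomm, hk2, hcz]
  set E := qEquiv s hs2 with hE
  have hEγ : E γ = φ := by
    rw [hE, hγdef, hφdef]
    exact congrArg (qmk zJ) (Subtype.ext hs1)
  have hEz : E (bar zK) = bar zJ := congrArg (qmk zJ) (Subtype.ext hs2)
  set L := (img zK K).map E.toMonoidHom with hLdef
  set K2 := (img zK K).map (MulAut.conj (T.symm.f h)).toMonoidHom with hK2
  set L2 := K2.map E.toMonoidHom with hL2def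
  have hL : IsComponent L := Layer.isComponent_map_surj E DK.component
  have hL2 : IsComponent L2 :=
    Layer.isComponent_map_surj E (Layer.isComponent_map_conj DK.component _)
  have hLne : L ≠ L2 := fun he => hKh (mem_normalizer_iff_map_conj_eq.2
    (Subgroup.map_injective E.injective he).symm)
  obtain ⟨k0, hk0⟩ : ∃ k0, k0 = T.symm.f Y := ⟨_, rfl⟩
  obtain ⟨a, ha⟩ : ∃ a, a = E k0 := ⟨_, rfl⟩
  obtain ⟨a', ha'⟩ : ∃ a', a' = E (T.symm.f h * k0⁻¹ * (T.symm.f h)⁻¹) := ⟨_, rfl⟩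
  have haL : a ∈ L := ha ▸ ⟨k0, hk0 ▸ hkK, rfl⟩
  have ha'L : a' ∈ L2 := ha' ▸ ⟨_, ⟨k0⁻¹, inv_mem (hk0 ▸ hkK), rfl⟩, rfl⟩
  have haa : φ = a * a' := by rw [ha, ha', ← map_mul, ← hEγ, hγdef, hdec, hk0]
  have hk0sq : k0 * k0 = bar zK := by rw [hk0, ← map_mul, hyy]; rfl
  have ha2 : a * a = bar zJ := by rw [ha, ← map_mul, hk0sq, hEz]
  have ha'2 : a' * a' = bar zJ := by
    rw [ha', ← map_mul, show T.symm.f h * k0⁻¹ * (T.symm.f h)⁻¹ * (T.symm.f h * k0⁻¹ * (T.symm.f h)⁻¹)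
      = T.symm.f h * (k0 * k0)⁻¹ * (T.symm.f h)⁻¹ by group, hk0sq,
      inv_eq_of_mul_eq_one_right DK.tight.sq, ← bar_central, mul_inv_cancel_right, hEz]
  have hoth : ∀ N : Subgroup (QQ zJ), IsComponent N → N = L ∨ N = L2 ∨
      φ ∈ centralizer (N : Set (QQ zJ)) := by
    intro N hN
    by_cases h1 : N = L
    · exact Or.inl h1
    by_cases h2 : N = L2
    · exact Or.inr (Or.inl h2)
    refine Or.inr (Or.inr ?_)
    rw [haa]
    exact mul_mem
      (commutator_eq_bot_iff_le_centralizer.1 (Layer.components_commute hL hN (Ne.symm h1)) haL)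
      (commutator_eq_bot_iff_le_centralizer.1 (Layer.components_commute hL2 hN (Ne.symm h2)) ha'L)
  set J1 := (img zJ J).map (MulAut.conj σ).toMonoidHom with hJ1
  have hJ1c : IsComponent J1 := Layer.isComponent_map_conj DJ.component σ
  have hJne : img zJ J ≠ J1 := fun he => hσ (hσdef ▸ mem_normalizer_iff_map_conj_eq.2 he.symm)
  have hφJ1 : φ ∉ centralizer (J1 : Set (QQ zJ)) := fun hc => DJ.tight.ne (by
    have h1 := mem_centralizer_iff.1 hc (σ * j * σ⁻¹) ⟨j, hj, rfl⟩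
    have h2 : σ * j * σ⁻¹ = σ * (j * bar zJ) * σ⁻¹ := by
      rw [← hjt]
      have hσφ' : σ⁻¹ * φ = φ * σ⁻¹ := by
        rw [inv_mul_eq_iff_eq_mul, ← mul_assoc, ← hσφ, mul_inv_cancel_right]
      calc σ * j * σ⁻¹ = (φ * φ) * (σ * j * σ⁻¹) := by rw [hφ2, one_mul]
        _ = φ * (σ * j * σ⁻¹ * φ) := by rw [mul_assoc φ, ← h1]
        _ = (φ * σ) * j * (σ⁻¹ * φ) := by group
        _ = _ := by rw [hσφ, hσφ']; group
    have h3 := mul_right_cancel h2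
    exact (mul_eq_left.1 (mul_left_cancel h3).symm))
  obtain ⟨a₀, ha₀, ha₀2, b₀, hb₀, hab⟩ : ∃ a₀ ∈ img zJ J, a₀ * a₀ = bar zJ ∧
      ∃ b₀ ∈ J1, φ = a₀ * b₀ := by
    rcases hoth _ DJ.component with h1 | h1 | h1
    · rcases hoth _ hJ1c with h2 | h2 | h2
      · exact absurd (h1.trans h2.symm) hJne
      · exact ⟨a, h1 ▸ haL, ha2, a', h2 ▸ ha'L, haa⟩
      · exact absurd h2 hφJ1
    · rcases hoth _ hJ1c with h2 | h2 | h2
      · refine ⟨a', h1 ▸ ha'L, ha'2, a, h2 ▸ haL, haa.trans ?_⟩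
        exact (Layer.commute_of_commutator_eq_bot (Layer.components_commute hL hL2 hLne) haL ha'L)
      · exact absurd (h1.trans h2.symm) hJne
      · exact absurd h2 hφJ1
    · exact absurd (hφdef ▸ h1) hφc
  rw [← hσdef] at hσ hσ2
  obtain ⟨b', hb', rfl⟩ := hb₀
  have hab' : φ = a₀ * (σ * b' * σ⁻¹) := hab
  obtain ⟨ζ, hζeq, hζdef⟩ : ∃ ζ, (∀ q, ζ * q = q * ζ) ∧
      φ = a₀ * (σ * a₀ * σ⁻¹) * ζ := by
    have h2 : σ * σ * b' * (σ * σ)⁻¹ ∈ img zJ J := (mem_normalizer_iff.1 hσ2 b').1 hb'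
    have hfix : σ * φ * σ⁻¹ = φ := by rw [← hσφ, mul_inv_cancel_right]
    have he : a₀ * (σ * b' * σ⁻¹) = σ * σ * b' * (σ * σ)⁻¹ * (σ * a₀ * σ⁻¹) := by
      rw [(moved_commute DJ.component hσ h2 ha₀).eq, ← hab', ← hfix, hab']
      group
    obtain ⟨u, hu⟩ : ∃ u, u = (σ * σ * b' * (σ * σ)⁻¹)⁻¹ * a₀ := ⟨_, rfl⟩
    have hu' : u = σ * (a₀ * b'⁻¹) * σ⁻¹ := by
      rw [hu, inv_mul_eq_iff_eq_mul, eq_comm]
      calc σ * σ * b' * (σ * σ)⁻¹ * (σ * (a₀ * b'⁻¹) * σ⁻¹)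
          = σ * σ * b' * (σ * σ)⁻¹ * (σ * a₀ * σ⁻¹) * (σ * b' * σ⁻¹)⁻¹ := by group
        _ = a₀ := by rw [← he, mul_inv_cancel_right]
    have huz := DJ.tight.eq_of_moved hσ (hu ▸ mul_mem (inv_mem h2) ha₀)
      (mul_mem ha₀ (inv_mem hb')) hu'
    refine ⟨u⁻¹, fun q => ?_, ?_⟩
    · rw [inv_eq_of_mul_eq_one_right (DJ.tight.sq_of_eq huz)]
      exact DJ.tight.central_of_eq huz q
    · rw [hab', mul_assoc a₀, inv_eq_of_mul_eq_one_right (DJ.tight.sq_of_eq huz),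
        ← DJ.tight.central_of_eq huz]
      congr 1
      conv_rhs => rw [← inv_eq_of_mul_eq_one_right (DJ.tight.sq_of_eq huz), hu']
      group
  obtain ⟨l, hl, hla⟩ := DJ.tight.exists_anticommute (oddCore_QQ zJ) ha₀ ha₀2
  obtain ⟨b, hb⟩ : ∃ b, b = l * a₀ * l⁻¹ := ⟨_, rfl⟩
  rw [← hb] at hla
  have hbJ : b ∈ img zJ J := hb ▸ mul_mem (mul_mem hl ha₀) (inv_mem hl)
  have hφi : φ⁻¹ = φ := inv_eq_of_mul_eq_one_right hφ2
  have hbt : φ * b * φ = b * bar zJ := by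
    nth_rw 2 [← hφi]
    rw [hζdef, show a₀ * (σ * a₀ * σ⁻¹) * ζ * b * (a₀ * (σ * a₀ * σ⁻¹) * ζ)⁻¹ =
      a₀ * (σ * a₀ * σ⁻¹ * (ζ * b * ζ⁻¹) * (σ * a₀ * σ⁻¹)⁻¹) * a₀⁻¹ by group, hζeq,
      mul_inv_cancel_right, ← (moved_commute DJ.component hσ hbJ ha₀).eq, mul_inv_cancel_right, hla]
  obtain ⟨ll, hll⟩ : ∃ ll, ll = l * (σ * l * σ⁻¹) := ⟨_, rfl⟩
  obtain ⟨w, hw⟩ : ∃ w, w = b * (σ * b * σ⁻¹) * ζ := ⟨_, rfl⟩
  have hconjw : ll * φ * ll⁻¹ = w := by
    have e1 := (moved_commute DJ.component hσ ha₀ hl).eq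
    have e2 := (moved_commute DJ.component hσ hl hbJ).inv_left.eq
    calc ll * φ * ll⁻¹ = l * (σ * l * σ⁻¹ * a₀) * (σ * a₀ * σ⁻¹) * (σ * l * σ⁻¹)⁻¹ *
          ((σ * l * σ⁻¹) * ζ * (σ * l * σ⁻¹)⁻¹) * l⁻¹ := by rw [hll, hζdef]; group
      _ = l * a₀ * (σ * b * σ⁻¹) * ζ * l⁻¹ := by
          rw [← e1, ← hζeq, mul_inv_cancel_right, hb]; group
      _ = l * a₀ * ((σ * b * σ⁻¹) * l⁻¹) * ζ := by rw [mul_assoc _ ζ, hζeq]; group
      _ = w := by rw [← e2, hw, hb]; group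
  have hw2 : w * w = 1 := by
    rw [← hconjw, show ll * φ * ll⁻¹ * (ll * φ * ll⁻¹) = ll * (φ * φ) * ll⁻¹ by group, hφ2, mul_one,
      mul_inv_cancel]
  have hwφ : w * φ = φ * w := by
    rw [hw, mul_assoc _ ζ, hζeq, ← mul_assoc,
      pair_comm DJ.tight.sq DJ.tight.central hφ2 hσφ hbt]
    simp only [mul_assoc]
  obtain ⟨x, hfx, r, hr⟩ := T.exists_pre_two (w := w) (hφdef ▸ hwφ) (k := 1)
    (by rw [pow_one, pow_two, hw2])
  have hx2 : x * x = 1 := eq_one_of_killed T.f T.f_ker (k := r)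
    (by rw [← pow_two, ← pow_mul, mul_comm, pow_mul, hr, one_pow]) (by rw [map_mul, hfx, hw2])
  obtain ⟨C, -, hCX⟩ := exists_conj_exact (p := zJ) (x := ⟨zK, T.le T.mem_right⟩)
    (y := ⟨x, T.le x.2⟩) (Subtype.ext DK.sq)
    (Subtype.ext (congrArg (fun v : ↥H => (v : G)) hx2)) (w := ll) (by
      show ll * T.f T.qH * ll⁻¹ = T.f x
      rw [← hφdef, hconjw, hfx])
  obtain ⟨X, hX⟩ : ∃ X : G, X = (x : G) := ⟨_, rfl⟩
  have hCG : (C : G) * zK * (C : G)⁻¹ = X := hX ▸ congrArg Subtype.val hCX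
  have hxfw : T.f x = b * (T.f Y * b * (T.f Y)⁻¹) * ζ := by rw [hfx, hw, hσdef]
  rw [hσdef] at hσ hσ2
  have hmv := T.moves DJ DK hkK hYn hγc hσ hσ2 hbJ (hφdef ▸ hbt) hζeq hxfw
  obtain ⟨hdec', -⟩ := T.decomp DJ DK hkK hYn hYk hY2 hγc hσ hσ2 hbJ (hφdef ▸ hbt) hζeq hxfw
  obtain ⟨e, he⟩ : ∃ e, e = T.symm.f x := ⟨_, rfl⟩
  have he2 : e * e = 1 := by rw [he, ← map_mul, hx2, map_one]
  obtain ⟨D2, hDc, hDsn, hDP, hDO, -, -, hDmem, -⟩ :=
    exists_diag (oddCore_QQ zK) DK.tight he2 (he ▸ hmv)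
  have hXK : X * zK = zK * X := hX ▸ mem_centralizer_singleton_iff.1 (T.symm.le x.2)
  have hXJ : X * zJ = zJ * X := hX ▸ mem_centralizer_singleton_iff.1 (T.le x.2)
  have hXX : X * X = 1 := hX ▸ congrArg Subtype.val hx2
  have T3 : Two X zK (C1 X ⊓ C1 zK) := ⟨hXX, DK.sq, hXK, rfl⟩
  have he3 : T3.symm.f T3.pH = e := by
    rw [he]
    exact congrArg (qmk zK) (Subtype.ext hX)
  obtain ⟨P, -, hPm, hPl, -⟩ := T3.exists_lift_layer (K := D2)
    (by rw [he3, centralizer_zpowers]; exact hDc) (by rw [he3, centralizer_zpowers]; exact hDsn)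
    hDP hDO
  have htH : zJ * zK ∈ C1 X ⊓ C1 zK := ⟨mem_centralizer_singleton_iff.2 (by
      rw [mul_assoc, ← hXK, ← mul_assoc, ← hXJ, mul_assoc]), mem_centralizer_singleton_iff.2 (by
      rw [mul_assoc, DK.sq, mul_one, hcomm, ← mul_assoc, DK.sq, one_mul])⟩
  have htD : T3.symm.f ⟨zJ * zK, htH⟩ ∈ D2 := by
    have h1 : T3.symm.f ⟨zJ * zK, htH⟩ = T.symm.f T.pH * bar zK := rfl
    rw [h1, hdec', ← he, ← hk0, show (k0⁻¹) = k0 * bar zK from inv_eq_of_mul_eq_one_right (by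
      rw [← mul_assoc, hk0sq, DK.tight.sq])]
    have hm := hDmem k0 (hk0 ▸ hkK)
    convert hm using 1
    rw [inv_eq_of_mul_eq_one_right he2]
    calc k0 * (e * (k0 * bar zK) * e) * bar zK = k0 * (e * k0 * ((bar zK * e) * bar zK)) := by group
      _ = k0 * (e * k0 * (e * (bar zK * bar zK))) := by rw [DK.tight.central e]; group
      _ = _ := by rw [DK.tight.sq, mul_one]
  set Kh := K.map (MulAut.conj (C : G)).toMonoidHom with hKhdef
  have Dh : Data X Kh m := DK.conj C hCG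
  obtain ⟨π, hπ, hπe⟩ := hPm.symm ▸ htD
  have hn1 : T3.f (π⁻¹ * ⟨zJ * zK, htH⟩) ∈ normalizer (img X Kh : Set (QQ X)) :=
    T3.ker_normalizes (by rw [map_mul, map_inv, hπe, inv_mul_cancel]) Dh.component
  have hn2 := mul_mem (Layer.layer_le_normalizer_component Dh.component (hPl π hπ)) hn1
  rw [← map_mul, mul_inv_cancel_left] at hn2
  have htN : zJ * zK ∈ normalizer (Kh : Set G) :=
    (Dh.normalizer_iff ⟨zJ * zK, T3.le htH⟩).1 hn2
  obtain ⟨c0, hc0, hc01, hc02⟩ := T.exists_swap (j := b) (hφdef ▸ hbt)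
  have hXN := swap_norm (DK.conj (c0 : G) hc01) Dh htN
  have hX0 : (c0 : G)⁻¹ * X * c0 ∈ normalizer (K : Set G) := by
    rw [mem_normalizer_iff]
    intro q
    have h1 := mem_normalizer_iff.1 hXN ((c0 : G) * q * (c0 : G)⁻¹)
    have hmm : ∀ q : G, (c0 : G) * q * (c0 : G)⁻¹ ∈ K.map (MulAut.conj (c0 : G)).toMonoidHom ↔
        q ∈ K := fun q => Subgroup.mem_map_iff_mem (MulAut.conj (c0 : G)).injective
    rw [hmm, show X * ((c0 : G) * q * (c0 : G)⁻¹) * X⁻¹ =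
      (c0 : G) * ((c0 : G)⁻¹ * X * c0 * q * ((c0 : G)⁻¹ * X * c0)⁻¹) * (c0 : G)⁻¹ by group,
      hmm] at h1
    exact h1
  have hX0H : (c0 : G)⁻¹ * X * c0 ∈ H := by
    refine T.mem_of (mul_mem (mul_mem (inv_mem c0.2) (mem_centralizer_singleton_iff.2 hXJ)) c0.2) ?_
    have hzK : zK = (c0 : G)⁻¹ * (zJ * zK) * c0 := by rw [← hc01]; group
    conv_lhs => rw [hzK]
    conv_rhs => rw [hzK]
    rw [show (c0 : G)⁻¹ * X * c0 * ((c0 : G)⁻¹ * (zJ * zK) * c0) = (c0 : G)⁻¹ * (X * zJ * zK) * c0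
      by group, hXJ, mul_assoc zJ, hXK]
    group
  have hfX0 : T.f ⟨_, hX0H⟩ = T.f x := by
    have h1 : T.f ⟨_, hX0H⟩ = b⁻¹ * T.f x * b := by
      rw [← hc0, T.f_apply x, ← map_inv, ← map_mul, ← map_mul]
      exact congrArg (qmk zJ) (Subtype.ext (congrArg (fun v => (c0 : G)⁻¹ * v * c0) hX))
    rw [h1, hfx, hw]
    calc b⁻¹ * (b * (σ * b * σ⁻¹) * ζ) * b = σ * b * σ⁻¹ * (ζ * b) := by group
      _ = σ * b * σ⁻¹ * b * ζ := by rw [hζeq]; group
      _ = _ := by rw [← (moved_commute DJ.component (hσdef ▸ hσ) hbJ hbJ).eq]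
  refine hmv ?_
  have hg0 : T.symm.f ⟨_, hX0H⟩ ∈ normalizer (img zK K : Set (QQ zK)) :=
    (DK.normalizer_iff ⟨_, T.symm.le hX0H⟩).2 hX0
  have ho := T.symm.ker_normalizes (x := (⟨_, hX0H⟩ : ↥H)⁻¹ * x)
    (show T.f _ = 1 by rw [map_mul, map_inv, hfX0, inv_mul_cancel]) DK.component
  have := mul_mem hg0 ho
  rwa [← map_mul, mul_inv_cancel_left] at this

/-- Every 2-element of order at least four of `C_K(zJ)` normalises `J`. -/
theorem elem_norm (DJ : Data zJ J m) (DK : Data zK K m) :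
    ∀ (i : ℕ) (y : G), y ∈ K → orderOf y = 2 ^ (i + 2) → y * zJ = zJ * y →
      y ∈ normalizer (J : Set G) := by
  intro i
  induction i with
  | zero =>
    intro y hyK ho hy
    have hy4 : y ^ (2 * 1 * 2) = 1 := by rw [show 2 * 1 * 2 = orderOf y by rw [ho]; rfl, pow_orderOf_eq_one]
    have hne : y * y ≠ 1 := fun h => by
      have := orderOf_le_of_pow_eq_one (n := 2) (by norm_num) (by rw [pow_two, h] : y ^ 2 = 1)
      rw [ho] at this
      norm_num at this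
    have hsq : y * y = zK := (DK.uniq _ (mul_mem hyK hyK) (by
      rw [← pow_two, ← pow_two, ← pow_mul]; exact hy4)).resolve_left hne
    refine elem_step DJ DK hyK (k := 2) (n := 1) ?_ hne (by rw [mul_one, pow_two, hsq]) hy ?_
    · rw [show 2 ^ 2 = orderOf y by rw [ho], pow_orderOf_eq_one]
    · have hc : zJ * zK = zK * zJ := by
        rw [← hsq, ← pow_two]; exact ((show Commute y zJ from hy).pow_left 2).symm.eq
      rw [hsq]
      refine swap_norm DJ DK ?_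
      exact zJ_normalizes DJ DK hc hyK (k := 2) (by rw [show 2 ^ 2 = orderOf y by rw [ho], pow_orderOf_eq_one]) hne hy
  | succ i ih =>
    intro y hyK ho hy
    have hne : y * y ≠ 1 := fun h => by
      have := orderOf_le_of_pow_eq_one (n := 2) (by norm_num) (by rw [pow_two, h] : y ^ 2 = 1)
      rw [ho] at this
      have : 2 ^ 3 ≤ 2 ^ (i + 1 + 2) := Nat.pow_le_pow_right (by norm_num) (by omega)
      omega
    have ho2 : orderOf (y * y) = 2 ^ (i + 2) := by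
      rw [← pow_two, orderOf_pow' y two_ne_zero, ho, Nat.gcd_eq_right (dvd_pow_self 2 (by omega)),
        pow_succ, Nat.mul_div_cancel _ two_pos]
    have hpow : y ^ (2 * 2 ^ (i + 1)) = zK := by
      refine (DK.uniq _ (pow_mem hyK _) ?_).resolve_left ?_
      · rw [← pow_add, ← two_mul, ← pow_succ', ← pow_succ', ← ho, pow_orderOf_eq_one]
      · intro h
        have := orderOf_le_of_pow_eq_one (by positivity) h
        rw [ho, ← pow_succ'] at this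
        exact absurd this (not_le.2 (Nat.pow_lt_pow_right one_lt_two (by omega)))
    refine elem_step DJ DK hyK (k := i + 1 + 2) (n := 2 ^ (i + 1)) ?_ hne hpow hy
      (ih _ (mul_mem hyK hyK) ho2 ((show Commute y zJ from hy).mul_left hy).eq)
    rw [← ho, pow_orderOf_eq_one]

end Cfsg.Agent.ClassicalInv
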