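import Cfsg.Agent.ClassicalInv.Basic

/-!
Two 2-components `J`, `K` with single involutions `zJ`, `zK`: if `zJ` normalises `K` then `zK`
normalises `J`, and every 2-element of order at least four of `C_K(zJ)` normalises `J`.
-/

set_option autoImplicit false

namespace Cfsg.Agent.ClassicalInv

open Subgroup Cfsg
open scoped commutatorElement

universe u

variable {G : Type u} [Group G] [Finite G]

omit [Finite G] in
theorem centralizer_zpowers {Q : Type*} [Group Q] (a : Q) :
    centralizer (zpowers a : Set Q) = centralizer ({a} : Set Q) := by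
  rw [zpowers_eq_closure, centralizer_closure]

/-- An element inverting one of the component's elements modulo `z` gives a conjugator. -/
theorem Two.exists_swap {p q : G} {H : Subgroup G} (T : Two p q H) {j : QQ p}
    (hj : T.f T.qH * j * T.f T.qH = j * bar p) :
    ∃ c : ↥(C1 p), qmk p c = j ∧ (c : G) * q * (c : G)⁻¹ = p * q ∧
      (c : G) * (p * q) * (c : G)⁻¹ = q := by
  set φ := T.f T.qH with hφ
  have hφ2 : φ * φ = 1 := by rw [hφ, ← map_mul, T.qH_sq, map_one]
  have hjφ : j * φ * j⁻¹ = bar p * φ := by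
    have h1 : φ * j⁻¹ * φ = (φ * j * φ)⁻¹ := by
      rw [mul_inv_rev, mul_inv_rev, inv_eq_of_mul_eq_one_right hφ2, mul_assoc]
    have hp2 : (bar p)⁻¹ = bar p := inv_eq_of_mul_eq_one_right (by
      rw [← map_mul]
      exact (congrArg (qmk p) (Subtype.ext T.sqp)).trans (map_one _))
    calc j * φ * j⁻¹ = (φ * φ) * j * φ * j⁻¹ := by rw [hφ2, one_mul]
      _ = φ * (φ * j * φ) * j⁻¹ := by group
      _ = φ * (bar p * j) * j⁻¹ := by rw [hj, bar_central]
      _ = φ * bar p := by group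
      _ = bar p * φ := (bar_central p φ).symm
  set x : ↥(C1 p) := ⟨q, T.le T.mem_right⟩
  set y : ↥(C1 p) := ⟨p, self_mem p⟩ * x with hy
  have hxx : x * x = 1 := Subtype.ext T.sqq
  have hyy : y * y = 1 := Subtype.ext (by
    show p * q * (p * q) = 1
    rw [mul_assoc, ← mul_assoc q, ← T.comm, mul_assoc, T.sqq, mul_one, T.sqp])
  have hxφ : qmk p x = φ := rfl
  obtain ⟨c, hc, hcx⟩ := exists_conj_exact hxx hyy (w := j) (by
    rw [hy, map_mul, hxφ, hjφ])
  have h1 : (c : G) * q * (c : G)⁻¹ = p * q := congrArg Subtype.val hcx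
  refine ⟨c, hc, h1, ?_⟩
  have hcp : (c : G) * p = p * c := mem_centralizer_singleton_iff.1 c.2
  calc (c : G) * (p * q) * (c : G)⁻¹ = p * ((c : G) * q * (c : G)⁻¹) := by
        rw [← mul_assoc (c : G), hcp]; group
    _ = q := by rw [h1, ← mul_assoc, T.sqp, one_mul]

variable {zJ zK : G} {J K : Subgroup G} {m : ℕ}

/-- If `zJ` normalises `K` then `zK` normalises `J`. -/
theorem swap_norm (DJ : Data zJ J m) (DK : Data zK K m)
    (hN : zJ ∈ normalizer (K : Set G)) : zK ∈ normalizer (J : Set G) := by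
  classical
  have : Fact (Nat.Prime 2) := ⟨Nat.prime_two⟩
  have hcomm : zJ * zK = zK * zJ := by
    have hmem : zJ * zK * zJ⁻¹ ∈ K := (mem_normalizer_iff.1 hN zK).1 DK.mem
    have h2 : zJ * zK * zJ⁻¹ * (zJ * zK * zJ⁻¹) = 1 := by
      rw [show zJ * zK * zJ⁻¹ * (zJ * zK * zJ⁻¹) = zJ * (zK * zK) * zJ⁻¹ by group, DK.sq, mul_one,
        mul_inv_cancel]
    rcases DK.uniq _ hmem h2 with h | h
    · exact absurd (conj_eq_one_iff.1 h) DK.ne
    · exact mul_inv_eq_iff_eq_mul.1 h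
  by_cases heq : zJ = zK
  · exact le_normalizer (heq ▸ DJ.mem)
  set H := C1 zJ ⊓ C1 zK with hH
  have T : Two zJ zK H := ⟨DJ.sq, DK.sq, hcomm, rfl⟩
  set f := T.f with hf
  set g := T.symm.f with hg
  set φ := f T.qH with hφ
  set γ := g T.pH with hγ
  have hφ2 : φ * φ = 1 := by rw [hφ, ← map_mul, T.qH_sq, map_one]
  have hγ2 : γ * γ = 1 := by rw [hγ, ← map_mul]; exact (congrArg g T.symm.qH_sq).trans (map_one g)
  have hγn : γ ∈ normalizer (img zK K : Set (QQ zK)) :=
    (DK.normalizer_iff ⟨zJ, T.symm.le T.mem_left⟩).2 hN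
  by_contra hcon
  have hφn : φ ∉ normalizer (img zJ J : Set (QQ zJ)) := fun h =>
    hcon ((DJ.normalizer_iff ⟨zK, T.le T.mem_right⟩).1 h)
  have hγc : γ ∉ centralizer (img zK K : Set (QQ zK)) := fun h =>
    hφn (T.pre_normalizes DK.component h (x := T.qH) DK.bar_mem DJ.component)
  -- the diagonal
  obtain ⟨D, hDc, hDsn, hDP, hDO, hDZ, hDcard, hDmem, hDle⟩ :=
    exists_diag (oddCore_QQ zJ) DJ.tight hφ2 hφn
  obtain ⟨P, hP, hPm, hPl, e, he⟩ := T.symm.exists_lift_layer (K := D)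
    (by rw [centralizer_zpowers]; exact hDc) (by rw [centralizer_zpowers]; exact hDsn) hDP hDO
  have hcard : Nat.card (↥(img zK K) ⧸ center ↥(img zK K)) =
      Nat.card ((↥P ⧸ oddCore ↥P) ⧸ center (↥P ⧸ oddCore ↥P)) := by
    rw [card_quot_center_congr e, DK.size, ← index_eq_card, hDZ, index_bot, hDcard, DJ.size]
  have hPC : ∀ x : ↥P, g x ∈ centralizer (img zK K : Set (QQ zK)) := by
    rcases layer_proj hP (g.comp P.subtype) (fun x => hPl x x.2) DK.component hcard with h | ⟨h, -⟩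
    · exact h
    · refine absurd (centralizes_of_inner DK.component hγn fun l hl => ?_) hγc
      obtain ⟨x, hx⟩ := h l hl
      exact ⟨g x, T.symm.fq_comm x, hx⟩
  -- an involution of the diagonal
  obtain ⟨j, hj, hj2⟩ := DJ.tight.exists_sq
  set J' := (img zJ J).map (MulAut.conj φ).toMonoidHom with hJ'
  have hφi : φ⁻¹ = φ := inv_eq_of_mul_eq_one_right hφ2
  have hj'm : φ * j * φ ∈ J' := ⟨j, hj, by show φ * j * φ⁻¹ = _; rw [hφi]⟩
  have hne' : img zJ J ≠ J' := fun h => hφn (mem_normalizer_iff_map_conj_eq.2 h.symm)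
  have hjc : Commute j (φ * j * φ) := Layer.commute_of_commutator_eq_bot
    (Layer.components_commute DJ.component (Layer.isComponent_map_conj DJ.component φ) hne') hj hj'm
  have hj'2 : φ * j * φ * (φ * j * φ) = bar zJ := by
    rw [show φ * j * φ * (φ * j * φ) = φ * j * (φ * φ) * j * φ by group, hφ2, mul_one,
      mul_assoc φ j j, hj2, ← DJ.tight.central, mul_assoc, hφ2, mul_one]
  obtain ⟨d, hd⟩ : ∃ d, d = j * (φ * j * φ) := ⟨_, rfl⟩
  have hd2 : d * d = 1 := by
    rw [hd, mul_assoc, ← mul_assoc (φ * j * φ), ← hjc.eq, mul_assoc, hj'2, ← mul_assoc, hj2,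
      DJ.tight.sq]
  have hdD : d ∈ D := hd ▸ hDmem j hj
  obtain ⟨π, hπ, hπd⟩ : d ∈ P.map f := hPm.symm ▸ hdD
  obtain ⟨n, ⟨k, hk⟩, hn⟩ := exists_twoPart π
  obtain ⟨u, hu⟩ : ∃ u, u = π ^ n := ⟨_, rfl⟩
  have hfu : f u = d := by
    rw [hu, hn f 1 (by rw [pow_one, pow_two]; rw [show f π = d from hπd]; exact hd2)]
    exact hπd
  have hu2 : u * u = 1 := by
    refine eq_one_of_killed f T.f_ker (k := k) ?_ ?_
    · rw [← pow_two, ← pow_mul, mul_comm, pow_mul, hu, hk, one_pow]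
    · rw [map_mul, hfu, hd2]
  have huK : g u ∈ centralizer (img zK K : Set (QQ zK)) :=
    hPC ⟨u, hu ▸ pow_mem hπ n⟩
  -- the conjugators
  obtain ⟨kb, hkb, hkγ⟩ := DK.tight.exists_twist (oddCore_QQ zK) hγ2 hγn hγc
  obtain ⟨ck, hck, hck1, hck2⟩ := T.symm.exists_swap (j := kb) hkγ
  have hφd : φ * d = d * φ := by
    rw [hd]
    calc φ * (j * (φ * j * φ)) = φ * ((φ * j * φ) * j) := by rw [hjc.eq]
      _ = (φ * φ) * j * φ * j := by group
      _ = j * φ * j * (φ * φ) := by rw [hφ2, one_mul, mul_one]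
      _ = j * (φ * j * φ) * φ := by group
  have hjφj : j * φ * j⁻¹ = φ * d * bar zJ := by
    have hji : j⁻¹ = j * bar zJ := by
      refine inv_eq_of_mul_eq_one_right ?_
      rw [← mul_assoc, hj2, DJ.tight.sq]
    rw [hji, hd]
    calc j * φ * (j * bar zJ) = (φ * φ) * j * φ * j * bar zJ := by rw [hφ2, one_mul]; group
      _ = φ * ((φ * j * φ) * j) * bar zJ := by group
      _ = _ := by rw [hjc.eq]
  set x1 : ↥H := T.qH * u * T.pH with hx1
  have hpHu : T.pH * u = u * T.pH := T.symm.qH_comm u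
  have hpq : T.pH * T.qH = T.qH * T.pH := T.symm.qH_comm _
  have hx12 : x1 * x1 = 1 := by
    have h1 : T.pH * T.pH = 1 := T.symm.qH_sq
    rw [hx1, show T.qH * u * T.pH * (T.qH * u * T.pH) = T.qH * u * (T.pH * T.qH) * u * T.pH by group,
      hpq, show T.qH * u * (T.qH * T.pH) * u * T.pH = T.qH * (u * T.qH) * (T.pH * u) * T.pH by group,
      hpHu, ← T.qH_comm u,
      show T.qH * (T.qH * u) * (u * T.pH) * T.pH = T.qH * T.qH * (u * u) * (T.pH * T.pH) by group,
      h1, hu2, T.qH_sq, one_mul, one_mul]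
  have hfx1 : f x1 = φ * d * bar zJ := by rw [hx1, map_mul, map_mul, hfu]; rfl
  obtain ⟨c, hc, hcx⟩ := exists_conj_exact (p := zJ) (x := ⟨zK, T.le T.mem_right⟩)
    (y := ⟨x1, T.le x1.2⟩) (Subtype.ext DK.sq) (Subtype.ext (congrArg (fun x : ↥H => (x : G)) hx12)) (w := j)
    (hjφj.trans hfx1.symm)
  have hcG : (c : G) * zK * (c : G)⁻¹ = x1 := congrArg Subtype.val hcx
  have hcJ : (c : G) * zJ = zJ * c := mem_centralizer_singleton_iff.1 c.2
  obtain ⟨t, ht⟩ : ∃ t : G, t = zK * zJ := ⟨_, rfl⟩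
  obtain ⟨v, hv⟩ : ∃ v : G, v = zK * u := ⟨_, rfl⟩
  have hct : (c : G) * t * (c : G)⁻¹ = v := by
    calc (c : G) * t * (c : G)⁻¹ = (c : G) * zK * (c : G)⁻¹ * ((c : G) * zJ * (c : G)⁻¹) := by
          rw [ht]; group
      _ = zK * u := by
        rw [hcG, hcJ, mul_inv_cancel_right]
        show zK * (u : G) * zJ * zJ = _
        rw [mul_assoc _ zJ, DJ.sq, mul_one]
      _ = v := hv.symm
  set e' := (c : G) * (ck : G) with he'
  have hev : e' * zJ * e'⁻¹ = v := by
    rw [← hct, ht, ← hck1, he']; group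
  have hzv : zK ∈ C1 v := by
    rw [hv, mem_centralizer_singleton_iff]
    have : (u : G) * zK = zK * u := congrArg Subtype.val (T.qH_comm u).symm
    rw [mul_assoc, this]
  have hvv : v * v = 1 := by
    rw [← hev, show e' * zJ * e'⁻¹ * (e' * zJ * e'⁻¹) = e' * (zJ * zJ) * e'⁻¹ by group, DJ.sq,
      mul_one, mul_inv_cancel]
  have T' : Two v zK (C1 v ⊓ C1 zK) :=
    ⟨hvv, DK.sq, (mem_centralizer_singleton_iff.1 hzv).symm, rfl⟩
  have hγ' : T'.symm.f T'.pH ∈ centralizer (img zK K : Set (QQ zK)) := by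
    have h : T'.symm.f T'.pH = bar zK * g u := by
      show qmk zK _ = qmk zK _ * qmk zK _
      rw [← map_mul]
      exact congrArg _ (Subtype.ext hv)
    rw [h]
    exact mul_mem (mem_centralizer_iff.2 fun k _ => (bar_central zK k).symm) huK
  -- pull back
  have hw0C : e'⁻¹ * zK * e' ∈ C1 zJ := by
    have h := conj_mem_C1 e'⁻¹ (z := v) (z' := zJ) (by rw [← hev]; group) hzv
    simpa using h
  have hback : ∀ J₀ : Subgroup G, Data zJ J₀ m →
      qmk zJ ⟨_, hw0C⟩ ∈ centralizer (img zJ J₀ : Set (QQ zJ)) := by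
    intro J₀ D₀
    have D₁ := D₀.conj e' hev
    have h := T'.star DK.component DK.bar_mem hγ' D₁.component (D₁.size.trans DK.size.symm)
    rw [mem_centralizer_iff]
    intro l hl
    refine (qEquiv e' hev).injective ?_
    rw [map_mul, map_mul]
    have hwq : qEquiv e' hev (qmk zJ ⟨_, hw0C⟩) = T'.f T'.qH := by
      rw [qEquiv_mk]
      exact congrArg (qmk v) (Subtype.ext (by
        show e' * (e'⁻¹ * zK * e') * e'⁻¹ = zK
        group))
    rw [hwq]
    refine mem_centralizer_iff.1 h _ ?_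
    rw [SetLike.mem_coe, D₀.img_conj e' hev]
    exact ⟨l, hl, rfl⟩
  have hJ2 : qmk zJ ⟨_, hw0C⟩ ∈ centralizer (J' : Set (QQ zJ)) := by
    have hzz : zK * zJ * zK⁻¹ = zJ := by rw [← hcomm, mul_inv_cancel_right]
    have h := hback _ (DJ.conj zK hzz)
    rwa [show img zJ (J.map (MulAut.conj zK).toMonoidHom) = J' by
      rw [DJ.img_conj zK hzz, hJ']
      congr 1
      exact MonoidHom.ext fun a => (QuotientGroup.induction_on a fun b => rfl)] at h
  have hwD : qmk zJ ⟨_, hw0C⟩ ∈ centralizer (D : Set (QQ zJ)) := by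
    refine centralizer_le (SetLike.coe_subset_coe.2 hDle) ?_
    rw [mem_centralizer_iff]
    have hle : img zJ J ⊔ J' ≤ centralizer ({qmk zJ ⟨_, hw0C⟩} : Set (QQ zJ)) := sup_le
      (fun y hy => mem_centralizer_singleton_iff.2 (mem_centralizer_iff.1 (hback J DJ) y hy))
      (fun y hy => mem_centralizer_singleton_iff.2 (mem_centralizer_iff.1 hJ2 y hy))
    exact fun y hy => mem_centralizer_singleton_iff.1 (hle hy)
  -- compute it
  obtain ⟨w₀, hw₀⟩ : ∃ w₀ : G, w₀ = (c : G)⁻¹ * zK * c := ⟨_, rfl⟩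
  have hw₀H : w₀ ∈ H := by
    have h1 : w₀ ∈ C1 zJ := hw₀ ▸ mul_mem (mul_mem (inv_mem c.2) (T.le T.mem_right)) c.2
    have h2 : w₀ ∈ C1 t := by
      have h := conj_mem_C1 (c : G)⁻¹ (z := v) (z' := t) (by rw [← hct]; group) hzv
      rw [hw₀]
      simpa using h
    refine T.mem_of h1 ?_
    have a1 := mem_centralizer_singleton_iff.1 h1
    have a2 := mem_centralizer_singleton_iff.1 h2
    have hzKt : zK = t * zJ := by rw [ht, mul_assoc, DJ.sq, mul_one]
    rw [hzKt, ← mul_assoc, a2, mul_assoc, a1, ← mul_assoc]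
  have hfw₀ : f ⟨w₀, hw₀H⟩ = φ * d * bar zJ := by
    have h : f ⟨w₀, hw₀H⟩ = j⁻¹ * φ * j := by
      rw [← hc, show φ = qmk zJ ⟨zK, T.le T.mem_right⟩ from rfl, ← map_inv, ← map_mul, ← map_mul]
      exact congrArg (qmk zJ) (Subtype.ext hw₀)
    rw [h, ← hjφj]
    have hji : j⁻¹ = j * bar zJ := by
      refine inv_eq_of_mul_eq_one_right ?_
      rw [← mul_assoc, hj2, DJ.tight.sq]
    rw [hji]
    calc j * bar zJ * φ * j = j * (bar zJ * φ) * j := by group
      _ = j * φ * (bar zJ * j) := by rw [DJ.tight.central φ]; group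
      _ = _ := by rw [DJ.tight.central j]
  obtain ⟨o, ho⟩ : ∃ o : ↥H, o = x1⁻¹ * ⟨w₀, hw₀H⟩ := ⟨_, rfl⟩
  have hoO : o ∈ oddCore ↥H := by
    have : f.ker.Normal := MonoidHom.normal_ker f
    exact Core.le_pPrimeCore (N := f.ker) T.f_ker
      (MonoidHom.mem_ker.2 (by rw [ho, map_mul, map_inv, hfx1, hfw₀, inv_mul_cancel]))
  -- conjugation by `ck` on `H`
  have hckK : (ck : G) * zK = zK * ck := mem_centralizer_singleton_iff.1 ck.2
  have hkt : (ck : G)⁻¹ * (zK * zJ) * ck = zJ := by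
    conv_lhs => rw [← hck1]
    group
  have hkJ : (ck : G)⁻¹ * zJ * ck = zK * zJ := by
    conv_lhs => rw [← hck2]
    group
  have hpres : ∀ y : G, y ∈ H → (ck : G)⁻¹ * y * ck ∈ H := by
    intro y hy
    have hy1 : y ∈ C1 zJ := T.le hy
    have hy2 : y ∈ C1 zK := T.symm.le hy
    have hyt : y ∈ C1 t := by
      rw [mem_centralizer_singleton_iff, ht, ← mul_assoc,
        mem_centralizer_singleton_iff.1 hy2, mul_assoc, mem_centralizer_singleton_iff.1 hy1,
        ← mul_assoc]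
    refine T.mem_of ?_ ?_
    · have h := conj_mem_C1 (ck : G)⁻¹ (z := t) (z' := zJ) (by rw [inv_inv, ht]; exact hkt) hyt
      simpa using h
    · have hk2 : (ck : G)⁻¹ * zK * (ck : G)⁻¹⁻¹ = zK := by
        rw [inv_inv, mul_assoc, ← hckK, inv_mul_cancel_left]
      have h := conj_mem_C1 (ck : G)⁻¹ (z := zK) (z' := zK) hk2 hy2
      exact mem_centralizer_singleton_iff.1 (by simpa using h)
  have hpres' : ∀ y : G, y ∈ H → (ck : G) * y * (ck : G)⁻¹ ∈ H := by
    intro y hy
    have hy1 : y ∈ C1 zJ := T.le hy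
    have hy2 : y ∈ C1 zK := T.symm.le hy
    have hyt : y ∈ C1 t := by
      rw [mem_centralizer_singleton_iff, ht, ← mul_assoc,
        mem_centralizer_singleton_iff.1 hy2, mul_assoc, mem_centralizer_singleton_iff.1 hy1,
        ← mul_assoc]
    refine T.mem_of (conj_mem_C1 (ck : G) (z := t) (ht ▸ hck2) hyt) ?_
    exact mem_centralizer_singleton_iff.1
      (conj_mem_C1 (ck : G) (z := zK) (by rw [hckK, mul_inv_cancel_right]) hy2)
  let α : ↥H ≃* ↥H :=
    { toFun := fun y => ⟨(ck : G)⁻¹ * y * ck, hpres y y.2⟩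
      invFun := fun y => ⟨(ck : G) * y * (ck : G)⁻¹, hpres' y y.2⟩
      left_inv := fun y => Subtype.ext (by simp [mul_assoc])
      right_inv := fun y => Subtype.ext (by simp [mul_assoc])
      map_mul' := fun a b => Subtype.ext (by simp [mul_assoc]) }
  have hαo : α o ∈ oddCore ↥H := Core.map_pPrimeCore_le α ⟨o, hoO, rfl⟩
  have hgα : g (α u) = g u := by
    have h : g (α u) = kb⁻¹ * g u * kb := by
      rw [← hck, hg, show g u = qmk zK ⟨u, T.symm.le u.2⟩ from rfl, ← map_inv, ← map_mul, ← map_mul]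
      rfl
    rw [h, mul_assoc, ← mem_centralizer_iff.1 huK kb hkb, inv_mul_cancel_left]
  obtain ⟨o₂, ho₂⟩ : ∃ o₂ : ↥H, o₂ = u⁻¹ * α u := ⟨_, rfl⟩
  have ho₂O : o₂ ∈ oddCore ↥H := by
    have : g.ker.Normal := MonoidHom.normal_ker g
    exact Core.le_pPrimeCore (N := g.ker) T.symm.f_ker
      (MonoidHom.mem_ker.2 (by rw [ho₂, map_mul, map_inv, hgα, inv_mul_cancel]))
  have hwval : qmk zJ ⟨_, hw0C⟩ = bar zJ * (d * f (o₂ * α o)) := by
    have hα : (⟨_, hw0C⟩ : ↥(C1 zJ)) = Subgroup.inclusion T.le (T.pH * u * o₂ * α o) := by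
      refine Subtype.ext ?_
      show e'⁻¹ * zK * e' = ((T.pH * u * o₂ * α o : ↥H) : G)
      rw [mul_assoc T.pH u, ho₂, mul_inv_cancel_left]
      show e'⁻¹ * zK * e' = zJ * ((ck : G)⁻¹ * u * ck) * ((ck : G)⁻¹ * o * ck)
      rw [ho]
      show e'⁻¹ * zK * e' =
        zJ * ((ck : G)⁻¹ * u * ck) * ((ck : G)⁻¹ * ((zK * u * zJ)⁻¹ * w₀) * ck)
      have huJ : (u : G) * zJ = zJ * u := mem_centralizer_singleton_iff.1 (T.le u.2)
      conv_rhs => arg 1; arg 1; rw [← hkt]
      rw [he', hw₀, show (zK * (u : G) * zJ)⁻¹ = (zK * zJ * u)⁻¹ by rw [mul_assoc, huJ, ← mul_assoc]]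
      group
    rw [hα]
    show f (T.pH * u * o₂ * α o) = _
    rw [mul_assoc, map_mul, map_mul, hfu, mul_assoc]
    rfl
  have hRD : ∀ r ∈ oddCore ↥H, f r ∈ centralizer (D : Set (QQ zJ)) := by
    set C := T.f.range with hCdef
    have hDC : D ≤ C := by rw [hCdef, T.range_eq, centralizer_zpowers]; exact hDc
    have hDqs : IsQuasisimple ↥(D.subgroupOf C) := Layer.isQuasisimple_congr
      (subgroupOfEquivOfLe hDC).symm (Layer.isQuasisimple_congr
        ((QuotientGroup.quotientMulEquivOfEq hDO).trans QuotientGroup.quotientBot) hDP.2)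
    have hDcomp : IsComponent (D.subgroupOf C) := by
      refine ⟨?_, hDqs⟩
      rw [hCdef, T.range_eq, centralizer_zpowers]
      exact hDsn
    set M := (oddCore ↥H).map f.rangeRestrict with hM
    have hMn : M.Normal := Core.pPrimeCore_normal.map _ f.rangeRestrict_surjective
    intro r hr
    rcases Layer.component_le_or_commute hDcomp hMn.isSubnormal with h | h
    · exfalso
      obtain ⟨s, hs, hse⟩ := h (show (⟨d, hDC hdD⟩ : ↥C) ∈ D.subgroupOf C from hdD)
      have hsd : f s = d := congrArg Subtype.val hse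
      have hdd : d = 1 := orderOf_eq_one_iff.1 (Nat.eq_one_of_dvd_coprimes
        (Core.coprime_card_pPrimeCore (p := 2) (G := ↥H))
        (hsd ▸ (orderOf_map_dvd f s).trans ((oddCore ↥H).orderOf_dvd_natCard hs))
        (orderOf_dvd_of_pow_eq_one (by rw [pow_two]; exact hd2)))
      rw [hd] at hdd
      have hjJ' : j ∈ J' := by
        rw [eq_inv_of_mul_eq_one_left hdd]
        exact inv_mem hj'm
      rcases DJ.tight.cent j hj (commutator_eq_bot_iff_le_centralizer.1
        (Layer.components_commute (Layer.isComponent_map_conj DJ.component φ) DJ.component hne'.symm)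
          hjJ') with h1 | h1
      · exact DJ.tight.ne (by rw [← hj2, h1, one_mul])
      · rw [h1, DJ.tight.sq] at hj2
        exact DJ.tight.ne hj2.symm
    · rw [mem_centralizer_iff]
      intro y hy
      exact congrArg Subtype.val (Layer.commute_of_commutator_eq_bot h
        (show (⟨y, hDC hy⟩ : ↥C) ∈ D.subgroupOf C from hy) ⟨r, hr, rfl⟩)
  have hdc : d ∈ centralizer (D : Set (QQ zJ)) := by
    rw [hwval] at hwD
    have h1 : bar zJ ∈ centralizer (D : Set (QQ zJ)) :=
      mem_centralizer_iff.2 fun y _ => (bar_central zJ y).symm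
    have h2 := mul_mem (inv_mem h1) hwD
    rw [inv_mul_cancel_left] at h2
    have h3 := mul_mem h2 (inv_mem (hRD _ (mul_mem ho₂O hαo)))
    rwa [mul_inv_cancel_right] at h3
  have hd1 : d = 1 := by
    have h : (⟨d, hdD⟩ : ↥D) ∈ center ↥D :=
      Subgroup.mem_center_iff.2 fun y => Subtype.ext (mem_centralizer_iff.1 hdc y y.2)
    rw [hDZ, Subgroup.mem_bot] at h
    exact congrArg Subtype.val h
  rw [hd] at hd1
  have hjJ' : j ∈ J' := by
    rw [eq_inv_of_mul_eq_one_left hd1]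
    exact inv_mem hj'm
  rcases DJ.tight.cent j hj (commutator_eq_bot_iff_le_centralizer.1
    (Layer.components_commute (Layer.isComponent_map_conj DJ.component φ) DJ.component hne'.symm)
      hjJ') with h1 | h1
  · exact DJ.tight.ne (by rw [← hj2, h1, one_mul])
  · rw [h1, DJ.tight.sq] at hj2
    exact DJ.tight.ne hj2.symm

end Cfsg.Agent.ClassicalInv
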